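import Cfsg.Agent.CosetCert.Fi23Order.CloseCheck0

/-! Generated: the closing word has the stated order on the table. -/

namespace Cfsg.Agent.CosetCert.Fi23Order

theorem pow_ok : ∀ c, c < 31671 → (checkPower Cfsg.Agent.CosetCert.Fi23Index31671.data closeCode (get48 closeStore) 17) c = true := by
  have h0 : ∀ c, c < 0 → (checkPower Cfsg.Agent.CosetCert.Fi23Index31671.data closeCode (get48 closeStore) 17) c = true := forall_lt_zero
  have h1 := forall_lt_step (b := 4000) h0 powAt0 rfl
  have h2 := forall_lt_step (b := 8000) h1 powAt4000 rfl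
  have h3 := forall_lt_step (b := 12000) h2 powAt8000 rfl
  have h4 := forall_lt_step (b := 16000) h3 powAt12000 rfl
  have h5 := forall_lt_step (b := 20000) h4 powAt16000 rfl
  have h6 := forall_lt_step (b := 24000) h5 powAt20000 rfl
  have h7 := forall_lt_step (b := 28000) h6 powAt24000 rfl
  have h8 := forall_lt_step (b := 31671) h7 powAt28000 rfl
  exact h8

theorem close_pow : ∀ c, c < 31671 →
    Cfsg.Agent.CosetCert.Fi23Index31671.data.fwd ((List.replicate 17 closeCode).flatten) c = c :=
  fwd_power Cfsg.Agent.CosetCert.Fi23Index31671.data closeCode (get48 closeStore) 17 pow_ok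

end Cfsg.Agent.CosetCert.Fi23Order
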