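import Cfsg.Agent.CosetCert.Fi23Order.CloseDef

/-! Generated: kernel checks. -/

set_option Elab.async false

namespace Cfsg.Agent.CosetCert.Fi23Order

theorem powAt0 : allFrom (checkPower Cfsg.Agent.CosetCert.Fi23Index31671.data closeCode (get48 closeStore) 17) 0 4000 = true := by decide +kernel

theorem powAt4000 : allFrom (checkPower Cfsg.Agent.CosetCert.Fi23Index31671.data closeCode (get48 closeStore) 17) 4000 4000 = true := by decide +kernel

theorem powAt8000 : allFrom (checkPower Cfsg.Agent.CosetCert.Fi23Index31671.data closeCode (get48 closeStore) 17) 8000 4000 = true := by decide +kernel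

theorem powAt12000 : allFrom (checkPower Cfsg.Agent.CosetCert.Fi23Index31671.data closeCode (get48 closeStore) 17) 12000 4000 = true := by decide +kernel

theorem powAt16000 : allFrom (checkPower Cfsg.Agent.CosetCert.Fi23Index31671.data closeCode (get48 closeStore) 17) 16000 4000 = true := by decide +kernel

theorem powAt20000 : allFrom (checkPower Cfsg.Agent.CosetCert.Fi23Index31671.data closeCode (get48 closeStore) 17) 20000 4000 = true := by decide +kernel

theorem powAt24000 : allFrom (checkPower Cfsg.Agent.CosetCert.Fi23Index31671.data closeCode (get48 closeStore) 17) 24000 4000 = true := by decide +kernel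

theorem powAt28000 : allFrom (checkPower Cfsg.Agent.CosetCert.Fi23Index31671.data closeCode (get48 closeStore) 17) 28000 3671 = true := by decide +kernel

end Cfsg.Agent.CosetCert.Fi23Order
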