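import Cfsg.Agent.CosetCert.Fi23Index31671.Defs
import Cfsg.Agent.CosetCert.PowerCheck
import Cfsg.Agent.CosetCert.Fi23Order.CloseData

/-! Generated: the closing word. -/

namespace Cfsg.Agent.CosetCert.Fi23Order

/-- The closing word in table letters. -/
def closeCode : List Nat := [5, 1, 7, 6, 3, 9, 8, 2, 4, 9, 0]

end Cfsg.Agent.CosetCert.Fi23Order
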