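import Cfsg.Agent.CosetCert.Fi23Index31671.Defs
import Cfsg.Agent.CosetCert.Lower
import Cfsg.Agent.CosetCert.Fi23Order.Pts0
import Cfsg.Agent.CosetCert.Fi23Order.Pos0

/-! Generated: one base point with its orbit. -/

set_option Elab.async false
set_option maxRecDepth 100000

namespace Cfsg.Agent.CosetCert.Fi23Order

noncomputable def level0 : Data.Level where
  gens := [
    [1, 2, 3, 8, 6, 4, 5, 3, 4, 0, 1, 2, 3, 8, 9, 5, 3, 4, 1, 4, 3, 5, 4, 6, 5, 7, 6, 8, 3, 2, 4, 3, 5, 4, 8, 3, 2, 1, 0, 1, 2, 3, 8, 4, 5, 3, 4, 2, 3, 8, 6, 7, 5, 6, 4, 5, 3, 4, 1, 4, 3, 5, 9, 8, 3, 2, 1, 0, 4, 3, 5, 4, 6, 8, 3, 2, 1],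
    [9, 5, 4, 3, 8, 6, 7, 5, 6, 4, 5, 2, 3, 4, 1, 2, 3, 8, 9, 6, 5, 3, 4, 1, 4, 3, 5, 4, 6, 5, 7, 6, 8, 3, 2, 4, 3, 5, 4, 8, 3, 2, 1, 0, 1, 2, 3, 8, 4, 5, 3, 4, 2, 3, 8, 6, 7, 5, 6, 4, 5, 3, 4, 1, 4, 3, 5, 6, 9, 8, 3, 2, 1, 4, 3, 2, 5, 4, 6, 5, 7, 6, 8, 3, 4, 5, 9],
    [9, 4, 1, 2, 3, 8, 5, 6, 3, 4, 5, 2, 3, 4, 1, 2, 3, 8, 9, 5, 2, 3, 4, 1, 4, 3, 5, 4, 6, 5, 7, 6, 8, 3, 2, 4, 3, 5, 4, 8, 3, 2, 1, 0, 1, 2, 3, 8, 4, 5, 3, 4, 2, 3, 8, 6, 7, 5, 6, 4, 5, 3, 4, 1, 4, 3, 2, 5, 9, 8, 3, 2, 1, 4, 3, 2, 5, 4, 3, 6, 5, 8, 3, 2, 1, 4, 9],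
    [9, 6, 5, 4, 3, 8, 3, 4, 5, 2, 3, 4, 1, 2, 3, 8, 9, 6, 4, 5, 2, 3, 4, 1, 4, 3, 5, 4, 6, 5, 7, 6, 8, 3, 2, 4, 3, 5, 4, 8, 3, 2, 1, 0, 1, 2, 3, 8, 4, 5, 3, 4, 2, 3, 8, 6, 7, 5, 6, 4, 5, 3, 4, 1, 4, 3, 2, 5, 4, 6, 9, 8, 3, 2, 1, 4, 3, 2, 5, 4, 3, 8, 3, 4, 5, 6, 9],
    [9, 5, 4, 3, 8, 3, 4, 5, 2, 3, 4, 1, 2, 3, 8, 9, 5, 3, 4, 1, 4, 3, 5, 4, 6, 5, 7, 6, 8, 3, 2, 4, 3, 5, 4, 8, 3, 2, 1, 0, 1, 2, 3, 8, 4, 5, 3, 4, 2, 3, 8, 6, 7, 5, 6, 4, 5, 3, 4, 1, 4, 3, 5, 9, 8, 3, 2, 1, 4, 3, 2, 5, 4, 3, 8, 3, 4, 5, 9],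
    [9, 4, 3, 8, 6, 4, 5, 2, 3, 4, 1, 2, 3, 8, 9, 6, 5, 3, 4, 1, 4, 3, 5, 4, 6, 5, 7, 6, 8, 3, 2, 4, 3, 5, 4, 8, 3, 2, 1, 0, 1, 2, 3, 8, 4, 5, 3, 4, 2, 3, 8, 6, 7, 5, 6, 4, 5, 3, 4, 1, 4, 3, 5, 6, 9, 8, 3, 2, 1, 4, 3, 2, 5, 4, 6, 8, 3, 4, 9],
    [8, 9, 1, 2, 3, 8, 7, 6, 4, 5, 2, 3, 4, 0, 1, 2, 3, 8, 9, 4, 5, 3, 4, 1, 4, 3, 5, 4, 6, 5, 7, 6, 8, 3, 2, 4, 3, 5, 4, 8, 3, 2, 1, 0, 1, 2, 3, 8, 4, 5, 3, 4, 2, 3, 8, 6, 7, 5, 6, 4, 5, 3, 4, 1, 4, 3, 5, 4, 9, 8, 3, 2, 1, 0, 4, 3, 2, 5, 4, 6, 7, 8, 3, 2, 1, 9, 8],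
    [8, 9, 0, 1, 2, 3, 8, 7, 6, 4, 5, 3, 4, 0, 1, 2, 3, 8, 9, 4, 5, 3, 4, 1, 4, 3, 5, 4, 6, 5, 7, 6, 8, 3, 2, 4, 3, 5, 4, 8, 3, 2, 1, 0, 1, 2, 3, 8, 4, 5, 3, 4, 2, 3, 8, 6, 7, 5, 6, 4, 5, 3, 4, 1, 4, 3, 5, 4, 9, 8, 3, 2, 1, 0, 4, 3, 5, 4, 6, 7, 8, 3, 2, 1, 0, 9, 8],
    [8, 9, 0, 1, 2, 3, 8, 4, 5, 3, 4, 0, 1, 2, 3, 8, 9, 6, 5, 3, 4, 1, 4, 3, 5, 4, 6, 5, 7, 6, 8, 3, 2, 4, 3, 5, 4, 8, 3, 2, 1, 0, 1, 2, 3, 8, 4, 5, 3, 4, 2, 3, 8, 6, 7, 5, 6, 4, 5, 3, 4, 1, 4, 3, 5, 6, 9, 8, 3, 2, 1, 0, 4, 3, 5, 4, 8, 3, 2, 1, 0, 9, 8],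
    [2, 3, 8, 9, 6, 5, 4, 3, 8, 5, 6, 3, 4, 5, 2, 3, 4, 1, 2, 3, 8, 9, 4, 5, 2, 3, 4, 1, 4, 3, 5, 4, 6, 5, 7, 6, 8, 3, 2, 4, 3, 5, 4, 8, 3, 2, 1, 0, 1, 2, 3, 8, 4, 5, 3, 4, 2, 3, 8, 6, 7, 5, 6, 4, 5, 3, 4, 1, 4, 3, 2, 5, 4, 9, 8, 3, 2, 1, 4, 3, 2, 5, 4, 3, 6, 5, 8, 3, 4, 5, 6, 9, 8, 3, 2],
    [9, 4, 3, 5, 4, 8, 3, 2, 1, 0, 1, 2, 3, 8, 4, 5, 3, 4, 9],
    [7, 6, 5, 4, 3, 8, 9, 7, 6, 5, 4, 1, 4, 3, 5, 4, 6, 5, 7, 6, 8, 3, 2, 4, 3, 5, 4, 8, 3, 2, 1, 0, 1, 2, 3, 8, 4, 5, 3, 4, 2, 3, 8, 6, 7, 5, 6, 4, 5, 3, 4, 1, 4, 5, 6, 7, 9, 8, 3, 4, 5, 6, 7],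
    [5, 4, 3, 8, 9, 7, 5, 6, 3, 4, 5, 2, 3, 4, 1, 4, 3, 5, 4, 6, 5, 7, 6, 8, 3, 2, 4, 3, 5, 4, 8, 3, 2, 1, 0, 1, 2, 3, 8, 4, 5, 3, 4, 2, 3, 8, 6, 7, 5, 6, 4, 5, 3, 4, 1, 4, 3, 2, 5, 4, 3, 6, 5, 7, 9, 8, 3, 4, 5],
    [0, 1, 2, 3, 8, 9, 4, 0, 1, 2, 3, 8, 7, 5, 6, 4, 5, 2, 3, 4, 1, 2, 3, 8, 9, 4, 5, 2, 3, 4, 1, 4, 3, 5, 4, 6, 5, 7, 6, 8, 3, 2, 4, 3, 5, 4, 8, 3, 2, 1, 0, 1, 2, 3, 8, 4, 5, 3, 4, 2, 3, 8, 6, 7, 5, 6, 4, 5, 3, 4, 1, 4, 3, 2, 5, 4, 9, 8, 3, 2, 1, 4, 3, 2, 5, 4, 6, 5, 7, 8, 3, 2, 1, 0, 4, 9, 8, 3, 2, 1, 0]]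
  base := 0
  size := 31671
  pts := fun j => force (get48 ptsStore0 j) fun e =>
    Nat.add (Nat.mul (Nat.div e 16777216) 1099511627776) (Nat.mod e 16777216)
  pos := get48 posStore0

theorem gens0_ok : Cfsg.Agent.CosetCert.Fi23Index31671.data.checkGens [] level0 = true := by decide +kernel

theorem pts0At0 : allFrom (Cfsg.Agent.CosetCert.Fi23Index31671.data.checkPoint level0) 0 500 = true := by decide +kernel

theorem pts0At500 : allFrom (Cfsg.Agent.CosetCert.Fi23Index31671.data.checkPoint level0) 500 500 = true := by decide +kernel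

theorem pts0At1000 : allFrom (Cfsg.Agent.CosetCert.Fi23Index31671.data.checkPoint level0) 1000 500 = true := by decide +kernel

theorem pts0At1500 : allFrom (Cfsg.Agent.CosetCert.Fi23Index31671.data.checkPoint level0) 1500 500 = true := by decide +kernel

theorem pts0At2000 : allFrom (Cfsg.Agent.CosetCert.Fi23Index31671.data.checkPoint level0) 2000 500 = true := by decide +kernel

theorem pts0At2500 : allFrom (Cfsg.Agent.CosetCert.Fi23Index31671.data.checkPoint level0) 2500 500 = true := by decide +kernel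

theorem pts0At3000 : allFrom (Cfsg.Agent.CosetCert.Fi23Index31671.data.checkPoint level0) 3000 500 = true := by decide +kernel

theorem pts0At3500 : allFrom (Cfsg.Agent.CosetCert.Fi23Index31671.data.checkPoint level0) 3500 500 = true := by decide +kernel

theorem pts0At4000 : allFrom (Cfsg.Agent.CosetCert.Fi23Index31671.data.checkPoint level0) 4000 500 = true := by decide +kernel

theorem pts0At4500 : allFrom (Cfsg.Agent.CosetCert.Fi23Index31671.data.checkPoint level0) 4500 500 = true := by decide +kernel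

theorem pts0At5000 : allFrom (Cfsg.Agent.CosetCert.Fi23Index31671.data.checkPoint level0) 5000 500 = true := by decide +kernel

theorem pts0At5500 : allFrom (Cfsg.Agent.CosetCert.Fi23Index31671.data.checkPoint level0) 5500 500 = true := by decide +kernel

theorem pts0At6000 : allFrom (Cfsg.Agent.CosetCert.Fi23Index31671.data.checkPoint level0) 6000 500 = true := by decide +kernel

theorem pts0At6500 : allFrom (Cfsg.Agent.CosetCert.Fi23Index31671.data.checkPoint level0) 6500 500 = true := by decide +kernel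

theorem pts0At7000 : allFrom (Cfsg.Agent.CosetCert.Fi23Index31671.data.checkPoint level0) 7000 500 = true := by decide +kernel

theorem pts0At7500 : allFrom (Cfsg.Agent.CosetCert.Fi23Index31671.data.checkPoint level0) 7500 500 = true := by decide +kernel

theorem pts0At8000 : allFrom (Cfsg.Agent.CosetCert.Fi23Index31671.data.checkPoint level0) 8000 500 = true := by decide +kernel

theorem pts0At8500 : allFrom (Cfsg.Agent.CosetCert.Fi23Index31671.data.checkPoint level0) 8500 500 = true := by decide +kernel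

theorem pts0At9000 : allFrom (Cfsg.Agent.CosetCert.Fi23Index31671.data.checkPoint level0) 9000 500 = true := by decide +kernel

theorem pts0At9500 : allFrom (Cfsg.Agent.CosetCert.Fi23Index31671.data.checkPoint level0) 9500 500 = true := by decide +kernel

theorem pts0At10000 : allFrom (Cfsg.Agent.CosetCert.Fi23Index31671.data.checkPoint level0) 10000 500 = true := by decide +kernel

theorem pts0At10500 : allFrom (Cfsg.Agent.CosetCert.Fi23Index31671.data.checkPoint level0) 10500 500 = true := by decide +kernel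

theorem pts0At11000 : allFrom (Cfsg.Agent.CosetCert.Fi23Index31671.data.checkPoint level0) 11000 500 = true := by decide +kernel

theorem pts0At11500 : allFrom (Cfsg.Agent.CosetCert.Fi23Index31671.data.checkPoint level0) 11500 500 = true := by decide +kernel

theorem pts0At12000 : allFrom (Cfsg.Agent.CosetCert.Fi23Index31671.data.checkPoint level0) 12000 500 = true := by decide +kernel

theorem pts0At12500 : allFrom (Cfsg.Agent.CosetCert.Fi23Index31671.data.checkPoint level0) 12500 500 = true := by decide +kernel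

theorem pts0At13000 : allFrom (Cfsg.Agent.CosetCert.Fi23Index31671.data.checkPoint level0) 13000 500 = true := by decide +kernel

theorem pts0At13500 : allFrom (Cfsg.Agent.CosetCert.Fi23Index31671.data.checkPoint level0) 13500 500 = true := by decide +kernel

theorem pts0At14000 : allFrom (Cfsg.Agent.CosetCert.Fi23Index31671.data.checkPoint level0) 14000 500 = true := by decide +kernel

theorem pts0At14500 : allFrom (Cfsg.Agent.CosetCert.Fi23Index31671.data.checkPoint level0) 14500 500 = true := by decide +kernel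

theorem pts0At15000 : allFrom (Cfsg.Agent.CosetCert.Fi23Index31671.data.checkPoint level0) 15000 500 = true := by decide +kernel

theorem pts0At15500 : allFrom (Cfsg.Agent.CosetCert.Fi23Index31671.data.checkPoint level0) 15500 500 = true := by decide +kernel

theorem pts0At16000 : allFrom (Cfsg.Agent.CosetCert.Fi23Index31671.data.checkPoint level0) 16000 500 = true := by decide +kernel

theorem pts0At16500 : allFrom (Cfsg.Agent.CosetCert.Fi23Index31671.data.checkPoint level0) 16500 500 = true := by decide +kernel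

theorem pts0At17000 : allFrom (Cfsg.Agent.CosetCert.Fi23Index31671.data.checkPoint level0) 17000 500 = true := by decide +kernel

theorem pts0At17500 : allFrom (Cfsg.Agent.CosetCert.Fi23Index31671.data.checkPoint level0) 17500 500 = true := by decide +kernel

theorem pts0At18000 : allFrom (Cfsg.Agent.CosetCert.Fi23Index31671.data.checkPoint level0) 18000 500 = true := by decide +kernel

theorem pts0At18500 : allFrom (Cfsg.Agent.CosetCert.Fi23Index31671.data.checkPoint level0) 18500 500 = true := by decide +kernel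

theorem pts0At19000 : allFrom (Cfsg.Agent.CosetCert.Fi23Index31671.data.checkPoint level0) 19000 500 = true := by decide +kernel

theorem pts0At19500 : allFrom (Cfsg.Agent.CosetCert.Fi23Index31671.data.checkPoint level0) 19500 500 = true := by decide +kernel

theorem pts0At20000 : allFrom (Cfsg.Agent.CosetCert.Fi23Index31671.data.checkPoint level0) 20000 500 = true := by decide +kernel

theorem pts0At20500 : allFrom (Cfsg.Agent.CosetCert.Fi23Index31671.data.checkPoint level0) 20500 500 = true := by decide +kernel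

theorem pts0At21000 : allFrom (Cfsg.Agent.CosetCert.Fi23Index31671.data.checkPoint level0) 21000 500 = true := by decide +kernel

theorem pts0At21500 : allFrom (Cfsg.Agent.CosetCert.Fi23Index31671.data.checkPoint level0) 21500 500 = true := by decide +kernel

theorem pts0At22000 : allFrom (Cfsg.Agent.CosetCert.Fi23Index31671.data.checkPoint level0) 22000 500 = true := by decide +kernel

theorem pts0At22500 : allFrom (Cfsg.Agent.CosetCert.Fi23Index31671.data.checkPoint level0) 22500 500 = true := by decide +kernel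

theorem pts0At23000 : allFrom (Cfsg.Agent.CosetCert.Fi23Index31671.data.checkPoint level0) 23000 500 = true := by decide +kernel

theorem pts0At23500 : allFrom (Cfsg.Agent.CosetCert.Fi23Index31671.data.checkPoint level0) 23500 500 = true := by decide +kernel

theorem pts0At24000 : allFrom (Cfsg.Agent.CosetCert.Fi23Index31671.data.checkPoint level0) 24000 500 = true := by decide +kernel

theorem pts0At24500 : allFrom (Cfsg.Agent.CosetCert.Fi23Index31671.data.checkPoint level0) 24500 500 = true := by decide +kernel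

theorem pts0At25000 : allFrom (Cfsg.Agent.CosetCert.Fi23Index31671.data.checkPoint level0) 25000 500 = true := by decide +kernel

theorem pts0At25500 : allFrom (Cfsg.Agent.CosetCert.Fi23Index31671.data.checkPoint level0) 25500 500 = true := by decide +kernel

theorem pts0At26000 : allFrom (Cfsg.Agent.CosetCert.Fi23Index31671.data.checkPoint level0) 26000 500 = true := by decide +kernel

theorem pts0At26500 : allFrom (Cfsg.Agent.CosetCert.Fi23Index31671.data.checkPoint level0) 26500 500 = true := by decide +kernel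

theorem pts0At27000 : allFrom (Cfsg.Agent.CosetCert.Fi23Index31671.data.checkPoint level0) 27000 500 = true := by decide +kernel

theorem pts0At27500 : allFrom (Cfsg.Agent.CosetCert.Fi23Index31671.data.checkPoint level0) 27500 500 = true := by decide +kernel

theorem pts0At28000 : allFrom (Cfsg.Agent.CosetCert.Fi23Index31671.data.checkPoint level0) 28000 500 = true := by decide +kernel

theorem pts0At28500 : allFrom (Cfsg.Agent.CosetCert.Fi23Index31671.data.checkPoint level0) 28500 500 = true := by decide +kernel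

theorem pts0At29000 : allFrom (Cfsg.Agent.CosetCert.Fi23Index31671.data.checkPoint level0) 29000 500 = true := by decide +kernel

theorem pts0At29500 : allFrom (Cfsg.Agent.CosetCert.Fi23Index31671.data.checkPoint level0) 29500 500 = true := by decide +kernel

theorem pts0At30000 : allFrom (Cfsg.Agent.CosetCert.Fi23Index31671.data.checkPoint level0) 30000 500 = true := by decide +kernel

theorem pts0At30500 : allFrom (Cfsg.Agent.CosetCert.Fi23Index31671.data.checkPoint level0) 30500 500 = true := by decide +kernel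

theorem pts0At31000 : allFrom (Cfsg.Agent.CosetCert.Fi23Index31671.data.checkPoint level0) 31000 500 = true := by decide +kernel

theorem pts0At31500 : allFrom (Cfsg.Agent.CosetCert.Fi23Index31671.data.checkPoint level0) 31500 171 = true := by decide +kernel

theorem pts0_ok : ∀ j, j < 31671 → (Cfsg.Agent.CosetCert.Fi23Index31671.data.checkPoint level0) j = true := by
  have h0 : ∀ j, j < 0 → (Cfsg.Agent.CosetCert.Fi23Index31671.data.checkPoint level0) j = true := forall_lt_zero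
  have h1 := forall_lt_step (b := 500) h0 pts0At0 rfl
  have h2 := forall_lt_step (b := 1000) h1 pts0At500 rfl
  have h3 := forall_lt_step (b := 1500) h2 pts0At1000 rfl
  have h4 := forall_lt_step (b := 2000) h3 pts0At1500 rfl
  have h5 := forall_lt_step (b := 2500) h4 pts0At2000 rfl
  have h6 := forall_lt_step (b := 3000) h5 pts0At2500 rfl
  have h7 := forall_lt_step (b := 3500) h6 pts0At3000 rfl
  have h8 := forall_lt_step (b := 4000) h7 pts0At3500 rfl
  have h9 := forall_lt_step (b := 4500) h8 pts0At4000 rfl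
  have h10 := forall_lt_step (b := 5000) h9 pts0At4500 rfl
  have h11 := forall_lt_step (b := 5500) h10 pts0At5000 rfl
  have h12 := forall_lt_step (b := 6000) h11 pts0At5500 rfl
  have h13 := forall_lt_step (b := 6500) h12 pts0At6000 rfl
  have h14 := forall_lt_step (b := 7000) h13 pts0At6500 rfl
  have h15 := forall_lt_step (b := 7500) h14 pts0At7000 rfl
  have h16 := forall_lt_step (b := 8000) h15 pts0At7500 rfl
  have h17 := forall_lt_step (b := 8500) h16 pts0At8000 rfl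
  have h18 := forall_lt_step (b := 9000) h17 pts0At8500 rfl
  have h19 := forall_lt_step (b := 9500) h18 pts0At9000 rfl
  have h20 := forall_lt_step (b := 10000) h19 pts0At9500 rfl
  have h21 := forall_lt_step (b := 10500) h20 pts0At10000 rfl
  have h22 := forall_lt_step (b := 11000) h21 pts0At10500 rfl
  have h23 := forall_lt_step (b := 11500) h22 pts0At11000 rfl
  have h24 := forall_lt_step (b := 12000) h23 pts0At11500 rfl
  have h25 := forall_lt_step (b := 12500) h24 pts0At12000 rfl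
  have h26 := forall_lt_step (b := 13000) h25 pts0At12500 rfl
  have h27 := forall_lt_step (b := 13500) h26 pts0At13000 rfl
  have h28 := forall_lt_step (b := 14000) h27 pts0At13500 rfl
  have h29 := forall_lt_step (b := 14500) h28 pts0At14000 rfl
  have h30 := forall_lt_step (b := 15000) h29 pts0At14500 rfl
  have h31 := forall_lt_step (b := 15500) h30 pts0At15000 rfl
  have h32 := forall_lt_step (b := 16000) h31 pts0At15500 rfl
  have h33 := forall_lt_step (b := 16500) h32 pts0At16000 rfl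
  have h34 := forall_lt_step (b := 17000) h33 pts0At16500 rfl
  have h35 := forall_lt_step (b := 17500) h34 pts0At17000 rfl
  have h36 := forall_lt_step (b := 18000) h35 pts0At17500 rfl
  have h37 := forall_lt_step (b := 18500) h36 pts0At18000 rfl
  have h38 := forall_lt_step (b := 19000) h37 pts0At18500 rfl
  have h39 := forall_lt_step (b := 19500) h38 pts0At19000 rfl
  have h40 := forall_lt_step (b := 20000) h39 pts0At19500 rfl
  have h41 := forall_lt_step (b := 20500) h40 pts0At20000 rfl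
  have h42 := forall_lt_step (b := 21000) h41 pts0At20500 rfl
  have h43 := forall_lt_step (b := 21500) h42 pts0At21000 rfl
  have h44 := forall_lt_step (b := 22000) h43 pts0At21500 rfl
  have h45 := forall_lt_step (b := 22500) h44 pts0At22000 rfl
  have h46 := forall_lt_step (b := 23000) h45 pts0At22500 rfl
  have h47 := forall_lt_step (b := 23500) h46 pts0At23000 rfl
  have h48 := forall_lt_step (b := 24000) h47 pts0At23500 rfl
  have h49 := forall_lt_step (b := 24500) h48 pts0At24000 rfl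
  have h50 := forall_lt_step (b := 25000) h49 pts0At24500 rfl
  have h51 := forall_lt_step (b := 25500) h50 pts0At25000 rfl
  have h52 := forall_lt_step (b := 26000) h51 pts0At25500 rfl
  have h53 := forall_lt_step (b := 26500) h52 pts0At26000 rfl
  have h54 := forall_lt_step (b := 27000) h53 pts0At26500 rfl
  have h55 := forall_lt_step (b := 27500) h54 pts0At27000 rfl
  have h56 := forall_lt_step (b := 28000) h55 pts0At27500 rfl
  have h57 := forall_lt_step (b := 28500) h56 pts0At28000 rfl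
  have h58 := forall_lt_step (b := 29000) h57 pts0At28500 rfl
  have h59 := forall_lt_step (b := 29500) h58 pts0At29000 rfl
  have h60 := forall_lt_step (b := 30000) h59 pts0At29500 rfl
  have h61 := forall_lt_step (b := 30500) h60 pts0At30000 rfl
  have h62 := forall_lt_step (b := 31000) h61 pts0At30500 rfl
  have h63 := forall_lt_step (b := 31500) h62 pts0At31000 rfl
  have h64 := forall_lt_step (b := 31671) h63 pts0At31500 rfl
  exact h64

end Cfsg.Agent.CosetCert.Fi23Order
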