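import Cfsg.Agent.CosetCert.Fi23Index31671.Defs
import Cfsg.Agent.CosetCert.Lower
import Cfsg.Agent.CosetCert.Fi23Order.Pts2
import Cfsg.Agent.CosetCert.Fi23Order.Pos2

/-! Generated: one base point with its orbit. -/

set_option Elab.async false
set_option maxRecDepth 100000

namespace Cfsg.Agent.CosetCert.Fi23Order

noncomputable def level2 : Data.Level where
  gens := [
    [6, 5, 3, 4, 0, 1, 2, 3, 8, 9, 8, 7, 6, 5, 2, 3, 4, 1, 4, 3, 5, 4, 6, 5, 7, 6, 8, 3, 2, 4, 3, 5, 4, 8, 3, 2, 1, 0, 1, 2, 3, 8, 4, 5, 3, 4, 2, 3, 8, 6, 7, 5, 6, 4, 5, 3, 4, 1, 4, 3, 2, 5, 6, 7, 8, 9, 8, 3, 2, 1, 0, 4, 3, 5, 6],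
    [8, 6, 5, 2, 3, 4, 1, 2, 3, 8, 9, 8, 7, 6, 5, 2, 3, 4, 1, 4, 3, 5, 4, 6, 5, 7, 6, 8, 3, 2, 4, 3, 5, 4, 8, 3, 2, 1, 0, 1, 2, 3, 8, 4, 5, 3, 4, 2, 3, 8, 6, 7, 5, 6, 4, 5, 3, 4, 1, 4, 3, 2, 5, 6, 7, 8, 9, 8, 3, 2, 1, 4, 3, 2, 5, 6, 8],
    [3, 4, 2, 3, 8, 9, 7, 6, 5, 4, 3, 8, 0, 8, 3, 2, 4, 3, 5, 4, 6, 5, 7, 6, 8, 3, 2, 4, 3, 5, 4, 8, 3, 2, 1, 0, 1, 2, 3, 8, 4, 5, 3, 4, 2, 3, 8, 6, 7, 5, 6, 4, 5, 3, 4, 2, 3, 8, 0, 8, 3, 4, 5, 6, 7, 9, 8, 3, 2, 4, 3],
    [3, 4, 2, 3, 8, 9, 7, 6, 4, 5, 3, 4, 2, 3, 8, 0, 8, 3, 2, 4, 3, 5, 4, 6, 5, 7, 6, 8, 3, 2, 4, 3, 5, 4, 8, 3, 2, 1, 0, 1, 2, 3, 8, 4, 5, 3, 4, 2, 3, 8, 6, 7, 5, 6, 4, 5, 3, 4, 2, 3, 8, 0, 8, 3, 2, 4, 3, 5, 4, 6, 7, 9, 8, 3, 2, 4, 3],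
    [5, 3, 4, 2, 3, 8, 9, 7, 6, 5, 3, 4, 2, 3, 8, 0, 8, 3, 2, 4, 3, 5, 4, 6, 5, 7, 6, 8, 3, 2, 4, 3, 5, 4, 8, 3, 2, 1, 0, 1, 2, 3, 8, 4, 5, 3, 4, 2, 3, 8, 6, 7, 5, 6, 4, 5, 3, 4, 2, 3, 8, 0, 8, 3, 2, 4, 3, 5, 6, 7, 9, 8, 3, 2, 4, 3, 5],
    [8, 5, 2, 3, 4, 1, 2, 3, 8, 6, 7, 5, 6, 4, 5, 3, 4, 2, 3, 8, 0, 8, 3, 2, 4, 3, 5, 4, 6, 5, 7, 6, 8, 3, 2, 4, 3, 5, 4, 8, 3, 2, 1, 0, 1, 2, 3, 8, 4, 5, 3, 4, 2, 3, 8, 6, 7, 5, 6, 4, 5, 3, 4, 2, 3, 8, 0, 8, 3, 2, 4, 3, 5, 4, 6, 5, 7, 6, 8, 3, 2, 1, 4, 3, 2, 5, 8],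
    [8, 3, 4, 1, 2, 3, 8, 9, 8, 7, 6, 5, 3, 4, 1, 4, 3, 5, 4, 6, 5, 7, 6, 8, 3, 2, 4, 3, 5, 4, 8, 3, 2, 1, 0, 1, 2, 3, 8, 4, 5, 3, 4, 2, 3, 8, 6, 7, 5, 6, 4, 5, 3, 4, 1, 4, 3, 5, 6, 7, 8, 9, 8, 3, 2, 1, 4, 3, 8],
    [6, 5, 4, 2, 3, 8, 9, 7, 6, 4, 6, 5, 7, 6, 8, 3, 2, 4, 3, 5, 4, 8, 3, 2, 1, 0, 1, 2, 3, 8, 4, 5, 3, 4, 2, 3, 8, 6, 7, 5, 6, 4, 6, 7, 9, 8, 3, 2, 4, 5, 6],
    [3, 8, 6, 5, 2, 3, 4, 1, 2, 3, 8, 9, 8, 7, 6, 5, 2, 3, 4, 1, 4, 3, 5, 4, 6, 5, 7, 6, 8, 3, 2, 4, 3, 5, 4, 8, 3, 2, 1, 0, 1, 2, 3, 8, 4, 5, 3, 4, 2, 3, 8, 6, 7, 5, 6, 4, 5, 3, 4, 1, 4, 3, 2, 5, 6, 7, 8, 9, 8, 3, 2, 1, 4, 3, 2, 5, 6, 8, 3],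
    [5, 4, 3, 8, 9, 7, 6, 4, 6, 5, 7, 6, 8, 3, 2, 4, 3, 5, 4, 8, 3, 2, 1, 0, 1, 2, 3, 8, 4, 5, 3, 4, 2, 3, 8, 6, 7, 5, 6, 4, 6, 7, 9, 8, 3, 4, 5],
    [6, 5, 3, 4, 1, 2, 3, 8, 9, 3, 8, 7, 6, 5, 2, 3, 4, 1, 4, 3, 5, 4, 6, 5, 7, 6, 8, 3, 2, 4, 3, 5, 4, 8, 3, 2, 1, 0, 1, 2, 3, 8, 4, 5, 3, 4, 2, 3, 8, 6, 7, 5, 6, 4, 5, 3, 4, 1, 4, 3, 2, 5, 6, 7, 8, 3, 9, 8, 3, 2, 1, 4, 3, 5, 6],
    [9, 8, 6, 5, 3, 4, 2, 3, 8, 9, 7, 6, 4, 5, 2, 3, 4, 1, 4, 3, 5, 4, 6, 5, 7, 6, 8, 3, 2, 4, 3, 5, 4, 8, 3, 2, 1, 0, 1, 2, 3, 8, 4, 5, 3, 4, 2, 3, 8, 6, 7, 5, 6, 4, 5, 3, 4, 1, 4, 3, 2, 5, 4, 6, 7, 9, 8, 3, 2, 4, 3, 5, 6, 8, 9],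
    [5, 3, 4, 1, 2, 3, 8, 9, 3, 8, 7, 6, 5, 2, 3, 4, 1, 4, 3, 5, 4, 6, 5, 7, 6, 8, 3, 2, 4, 3, 5, 4, 8, 3, 2, 1, 0, 1, 2, 3, 8, 4, 5, 3, 4, 2, 3, 8, 6, 7, 5, 6, 4, 5, 3, 4, 1, 4, 3, 2, 5, 6, 7, 8, 3, 9, 8, 3, 2, 1, 4, 3, 5],
    [3, 8, 6, 4, 5, 2, 3, 4, 0, 1, 2, 3, 8, 9, 8, 7, 6, 5, 2, 3, 4, 1, 4, 3, 5, 4, 6, 5, 7, 6, 8, 3, 2, 4, 3, 5, 4, 8, 3, 2, 1, 0, 1, 2, 3, 8, 4, 5, 3, 4, 2, 3, 8, 6, 7, 5, 6, 4, 5, 3, 4, 1, 4, 3, 2, 5, 6, 7, 8, 9, 8, 3, 2, 1, 0, 4, 3, 2, 5, 4, 6, 8, 3]]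
  base := 1
  size := 25344
  pts := fun j => force (get48 ptsStore2 j) fun e =>
    Nat.add (Nat.mul (Nat.div e 16777216) 1099511627776) (Nat.mod e 16777216)
  pos := get48 posStore2

theorem gens2_ok : Cfsg.Agent.CosetCert.Fi23Index31671.data.checkGens [0, 52] level2 = true := by decide +kernel

theorem pts2At0 : allFrom (Cfsg.Agent.CosetCert.Fi23Index31671.data.checkPoint level2) 0 500 = true := by decide +kernel

theorem pts2At500 : allFrom (Cfsg.Agent.CosetCert.Fi23Index31671.data.checkPoint level2) 500 500 = true := by decide +kernel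

theorem pts2At1000 : allFrom (Cfsg.Agent.CosetCert.Fi23Index31671.data.checkPoint level2) 1000 500 = true := by decide +kernel

theorem pts2At1500 : allFrom (Cfsg.Agent.CosetCert.Fi23Index31671.data.checkPoint level2) 1500 500 = true := by decide +kernel

theorem pts2At2000 : allFrom (Cfsg.Agent.CosetCert.Fi23Index31671.data.checkPoint level2) 2000 500 = true := by decide +kernel

theorem pts2At2500 : allFrom (Cfsg.Agent.CosetCert.Fi23Index31671.data.checkPoint level2) 2500 500 = true := by decide +kernel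

theorem pts2At3000 : allFrom (Cfsg.Agent.CosetCert.Fi23Index31671.data.checkPoint level2) 3000 500 = true := by decide +kernel

theorem pts2At3500 : allFrom (Cfsg.Agent.CosetCert.Fi23Index31671.data.checkPoint level2) 3500 500 = true := by decide +kernel

theorem pts2At4000 : allFrom (Cfsg.Agent.CosetCert.Fi23Index31671.data.checkPoint level2) 4000 500 = true := by decide +kernel

theorem pts2At4500 : allFrom (Cfsg.Agent.CosetCert.Fi23Index31671.data.checkPoint level2) 4500 500 = true := by decide +kernel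

theorem pts2At5000 : allFrom (Cfsg.Agent.CosetCert.Fi23Index31671.data.checkPoint level2) 5000 500 = true := by decide +kernel

theorem pts2At5500 : allFrom (Cfsg.Agent.CosetCert.Fi23Index31671.data.checkPoint level2) 5500 500 = true := by decide +kernel

theorem pts2At6000 : allFrom (Cfsg.Agent.CosetCert.Fi23Index31671.data.checkPoint level2) 6000 500 = true := by decide +kernel

theorem pts2At6500 : allFrom (Cfsg.Agent.CosetCert.Fi23Index31671.data.checkPoint level2) 6500 500 = true := by decide +kernel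

theorem pts2At7000 : allFrom (Cfsg.Agent.CosetCert.Fi23Index31671.data.checkPoint level2) 7000 500 = true := by decide +kernel

theorem pts2At7500 : allFrom (Cfsg.Agent.CosetCert.Fi23Index31671.data.checkPoint level2) 7500 500 = true := by decide +kernel

theorem pts2At8000 : allFrom (Cfsg.Agent.CosetCert.Fi23Index31671.data.checkPoint level2) 8000 500 = true := by decide +kernel

theorem pts2At8500 : allFrom (Cfsg.Agent.CosetCert.Fi23Index31671.data.checkPoint level2) 8500 500 = true := by decide +kernel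

theorem pts2At9000 : allFrom (Cfsg.Agent.CosetCert.Fi23Index31671.data.checkPoint level2) 9000 500 = true := by decide +kernel

theorem pts2At9500 : allFrom (Cfsg.Agent.CosetCert.Fi23Index31671.data.checkPoint level2) 9500 500 = true := by decide +kernel

theorem pts2At10000 : allFrom (Cfsg.Agent.CosetCert.Fi23Index31671.data.checkPoint level2) 10000 500 = true := by decide +kernel

theorem pts2At10500 : allFrom (Cfsg.Agent.CosetCert.Fi23Index31671.data.checkPoint level2) 10500 500 = true := by decide +kernel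

theorem pts2At11000 : allFrom (Cfsg.Agent.CosetCert.Fi23Index31671.data.checkPoint level2) 11000 500 = true := by decide +kernel

theorem pts2At11500 : allFrom (Cfsg.Agent.CosetCert.Fi23Index31671.data.checkPoint level2) 11500 500 = true := by decide +kernel

theorem pts2At12000 : allFrom (Cfsg.Agent.CosetCert.Fi23Index31671.data.checkPoint level2) 12000 500 = true := by decide +kernel

theorem pts2At12500 : allFrom (Cfsg.Agent.CosetCert.Fi23Index31671.data.checkPoint level2) 12500 500 = true := by decide +kernel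

theorem pts2At13000 : allFrom (Cfsg.Agent.CosetCert.Fi23Index31671.data.checkPoint level2) 13000 500 = true := by decide +kernel

theorem pts2At13500 : allFrom (Cfsg.Agent.CosetCert.Fi23Index31671.data.checkPoint level2) 13500 500 = true := by decide +kernel

theorem pts2At14000 : allFrom (Cfsg.Agent.CosetCert.Fi23Index31671.data.checkPoint level2) 14000 500 = true := by decide +kernel

theorem pts2At14500 : allFrom (Cfsg.Agent.CosetCert.Fi23Index31671.data.checkPoint level2) 14500 500 = true := by decide +kernel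

theorem pts2At15000 : allFrom (Cfsg.Agent.CosetCert.Fi23Index31671.data.checkPoint level2) 15000 500 = true := by decide +kernel

theorem pts2At15500 : allFrom (Cfsg.Agent.CosetCert.Fi23Index31671.data.checkPoint level2) 15500 500 = true := by decide +kernel

theorem pts2At16000 : allFrom (Cfsg.Agent.CosetCert.Fi23Index31671.data.checkPoint level2) 16000 500 = true := by decide +kernel

theorem pts2At16500 : allFrom (Cfsg.Agent.CosetCert.Fi23Index31671.data.checkPoint level2) 16500 500 = true := by decide +kernel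

theorem pts2At17000 : allFrom (Cfsg.Agent.CosetCert.Fi23Index31671.data.checkPoint level2) 17000 500 = true := by decide +kernel

theorem pts2At17500 : allFrom (Cfsg.Agent.CosetCert.Fi23Index31671.data.checkPoint level2) 17500 500 = true := by decide +kernel

theorem pts2At18000 : allFrom (Cfsg.Agent.CosetCert.Fi23Index31671.data.checkPoint level2) 18000 500 = true := by decide +kernel

theorem pts2At18500 : allFrom (Cfsg.Agent.CosetCert.Fi23Index31671.data.checkPoint level2) 18500 500 = true := by decide +kernel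

theorem pts2At19000 : allFrom (Cfsg.Agent.CosetCert.Fi23Index31671.data.checkPoint level2) 19000 500 = true := by decide +kernel

theorem pts2At19500 : allFrom (Cfsg.Agent.CosetCert.Fi23Index31671.data.checkPoint level2) 19500 500 = true := by decide +kernel

theorem pts2At20000 : allFrom (Cfsg.Agent.CosetCert.Fi23Index31671.data.checkPoint level2) 20000 500 = true := by decide +kernel

theorem pts2At20500 : allFrom (Cfsg.Agent.CosetCert.Fi23Index31671.data.checkPoint level2) 20500 500 = true := by decide +kernel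

theorem pts2At21000 : allFrom (Cfsg.Agent.CosetCert.Fi23Index31671.data.checkPoint level2) 21000 500 = true := by decide +kernel

theorem pts2At21500 : allFrom (Cfsg.Agent.CosetCert.Fi23Index31671.data.checkPoint level2) 21500 500 = true := by decide +kernel

theorem pts2At22000 : allFrom (Cfsg.Agent.CosetCert.Fi23Index31671.data.checkPoint level2) 22000 500 = true := by decide +kernel

theorem pts2At22500 : allFrom (Cfsg.Agent.CosetCert.Fi23Index31671.data.checkPoint level2) 22500 500 = true := by decide +kernel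

theorem pts2At23000 : allFrom (Cfsg.Agent.CosetCert.Fi23Index31671.data.checkPoint level2) 23000 500 = true := by decide +kernel

theorem pts2At23500 : allFrom (Cfsg.Agent.CosetCert.Fi23Index31671.data.checkPoint level2) 23500 500 = true := by decide +kernel

theorem pts2At24000 : allFrom (Cfsg.Agent.CosetCert.Fi23Index31671.data.checkPoint level2) 24000 500 = true := by decide +kernel

theorem pts2At24500 : allFrom (Cfsg.Agent.CosetCert.Fi23Index31671.data.checkPoint level2) 24500 500 = true := by decide +kernel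

theorem pts2At25000 : allFrom (Cfsg.Agent.CosetCert.Fi23Index31671.data.checkPoint level2) 25000 344 = true := by decide +kernel

theorem pts2_ok : ∀ j, j < 25344 → (Cfsg.Agent.CosetCert.Fi23Index31671.data.checkPoint level2) j = true := by
  have h0 : ∀ j, j < 0 → (Cfsg.Agent.CosetCert.Fi23Index31671.data.checkPoint level2) j = true := forall_lt_zero
  have h1 := forall_lt_step (b := 500) h0 pts2At0 rfl
  have h2 := forall_lt_step (b := 1000) h1 pts2At500 rfl
  have h3 := forall_lt_step (b := 1500) h2 pts2At1000 rfl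
  have h4 := forall_lt_step (b := 2000) h3 pts2At1500 rfl
  have h5 := forall_lt_step (b := 2500) h4 pts2At2000 rfl
  have h6 := forall_lt_step (b := 3000) h5 pts2At2500 rfl
  have h7 := forall_lt_step (b := 3500) h6 pts2At3000 rfl
  have h8 := forall_lt_step (b := 4000) h7 pts2At3500 rfl
  have h9 := forall_lt_step (b := 4500) h8 pts2At4000 rfl
  have h10 := forall_lt_step (b := 5000) h9 pts2At4500 rfl
  have h11 := forall_lt_step (b := 5500) h10 pts2At5000 rfl
  have h12 := forall_lt_step (b := 6000) h11 pts2At5500 rfl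
  have h13 := forall_lt_step (b := 6500) h12 pts2At6000 rfl
  have h14 := forall_lt_step (b := 7000) h13 pts2At6500 rfl
  have h15 := forall_lt_step (b := 7500) h14 pts2At7000 rfl
  have h16 := forall_lt_step (b := 8000) h15 pts2At7500 rfl
  have h17 := forall_lt_step (b := 8500) h16 pts2At8000 rfl
  have h18 := forall_lt_step (b := 9000) h17 pts2At8500 rfl
  have h19 := forall_lt_step (b := 9500) h18 pts2At9000 rfl
  have h20 := forall_lt_step (b := 10000) h19 pts2At9500 rfl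
  have h21 := forall_lt_step (b := 10500) h20 pts2At10000 rfl
  have h22 := forall_lt_step (b := 11000) h21 pts2At10500 rfl
  have h23 := forall_lt_step (b := 11500) h22 pts2At11000 rfl
  have h24 := forall_lt_step (b := 12000) h23 pts2At11500 rfl
  have h25 := forall_lt_step (b := 12500) h24 pts2At12000 rfl
  have h26 := forall_lt_step (b := 13000) h25 pts2At12500 rfl
  have h27 := forall_lt_step (b := 13500) h26 pts2At13000 rfl
  have h28 := forall_lt_step (b := 14000) h27 pts2At13500 rfl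
  have h29 := forall_lt_step (b := 14500) h28 pts2At14000 rfl
  have h30 := forall_lt_step (b := 15000) h29 pts2At14500 rfl
  have h31 := forall_lt_step (b := 15500) h30 pts2At15000 rfl
  have h32 := forall_lt_step (b := 16000) h31 pts2At15500 rfl
  have h33 := forall_lt_step (b := 16500) h32 pts2At16000 rfl
  have h34 := forall_lt_step (b := 17000) h33 pts2At16500 rfl
  have h35 := forall_lt_step (b := 17500) h34 pts2At17000 rfl
  have h36 := forall_lt_step (b := 18000) h35 pts2At17500 rfl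
  have h37 := forall_lt_step (b := 18500) h36 pts2At18000 rfl
  have h38 := forall_lt_step (b := 19000) h37 pts2At18500 rfl
  have h39 := forall_lt_step (b := 19500) h38 pts2At19000 rfl
  have h40 := forall_lt_step (b := 20000) h39 pts2At19500 rfl
  have h41 := forall_lt_step (b := 20500) h40 pts2At20000 rfl
  have h42 := forall_lt_step (b := 21000) h41 pts2At20500 rfl
  have h43 := forall_lt_step (b := 21500) h42 pts2At21000 rfl
  have h44 := forall_lt_step (b := 22000) h43 pts2At21500 rfl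
  have h45 := forall_lt_step (b := 22500) h44 pts2At22000 rfl
  have h46 := forall_lt_step (b := 23000) h45 pts2At22500 rfl
  have h47 := forall_lt_step (b := 23500) h46 pts2At23000 rfl
  have h48 := forall_lt_step (b := 24000) h47 pts2At23500 rfl
  have h49 := forall_lt_step (b := 24500) h48 pts2At24000 rfl
  have h50 := forall_lt_step (b := 25000) h49 pts2At24500 rfl
  have h51 := forall_lt_step (b := 25344) h50 pts2At25000 rfl
  exact h51

end Cfsg.Agent.CosetCert.Fi23Order
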