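import Cfsg.Agent.CosetCert.Fi23Index31671.Defs
import Cfsg.Agent.CosetCert.Lower
import Cfsg.Agent.CosetCert.Fi23Order.Pts3
import Cfsg.Agent.CosetCert.Fi23Order.Pos3

/-! Generated: one base point with its orbit. -/

set_option Elab.async false
set_option maxRecDepth 100000

namespace Cfsg.Agent.CosetCert.Fi23Order

noncomputable def level3 : Data.Level where
  gens := [
    [4, 2, 3, 8, 9, 6, 7, 5, 6, 4, 5, 3, 4, 2, 3, 8, 0, 8, 3, 2, 4, 3, 5, 4, 6, 5, 7, 6, 8, 3, 2, 4, 3, 5, 4, 8, 3, 2, 1, 0, 1, 2, 3, 8, 4, 5, 3, 4, 2, 3, 8, 6, 7, 5, 6, 4, 5, 3, 4, 2, 3, 8, 0, 8, 3, 2, 4, 3, 5, 4, 6, 5, 7, 6, 9, 8, 3, 2, 4],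
    [8, 6, 4, 5, 3, 4, 2, 3, 8, 9, 7, 6, 5, 4, 2, 4, 3, 5, 4, 6, 5, 7, 6, 8, 3, 2, 4, 3, 5, 4, 8, 3, 2, 1, 0, 1, 2, 3, 8, 4, 5, 3, 4, 2, 3, 8, 6, 7, 5, 6, 4, 5, 3, 4, 2, 4, 5, 6, 7, 9, 8, 3, 2, 4, 3, 5, 4, 6, 8],
    [6, 4, 5, 3, 4, 2, 3, 8, 9, 7, 6, 5, 4, 2, 4, 3, 5, 4, 6, 5, 7, 6, 8, 3, 2, 4, 3, 5, 4, 8, 3, 2, 1, 0, 1, 2, 3, 8, 4, 5, 3, 4, 2, 3, 8, 6, 7, 5, 6, 4, 5, 3, 4, 2, 4, 5, 6, 7, 9, 8, 3, 2, 4, 3, 5, 4, 6],
    [0],
    [5, 4, 3, 8, 6, 7, 5, 6, 4, 5, 3, 4, 1, 4, 3, 5, 4, 6, 5, 7, 6, 8, 3, 2, 4, 3, 5, 4, 8, 3, 2, 1, 0, 1, 2, 3, 8, 4, 5, 3, 4, 2, 3, 8, 6, 7, 5, 6, 4, 5, 3, 4, 1, 4, 3, 5, 4, 6, 5, 7, 6, 8, 3, 4, 5],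
    [6, 5, 3, 4, 2, 3, 8, 9, 7, 6, 5, 4, 2, 4, 3, 5, 4, 6, 5, 7, 6, 8, 3, 2, 4, 3, 5, 4, 8, 3, 2, 1, 0, 1, 2, 3, 8, 4, 5, 3, 4, 2, 3, 8, 6, 7, 5, 6, 4, 5, 3, 4, 2, 4, 5, 6, 7, 9, 8, 3, 2, 4, 3, 5, 6],
    [8, 4, 5, 3, 4, 1, 2, 3, 8, 6, 7, 5, 6, 4, 5, 3, 4, 2, 3, 8, 0, 8, 3, 2, 4, 3, 5, 4, 6, 5, 7, 6, 8, 3, 2, 4, 3, 5, 4, 8, 3, 2, 1, 0, 1, 2, 3, 8, 4, 5, 3, 4, 2, 3, 8, 6, 7, 5, 6, 4, 5, 3, 4, 2, 3, 8, 0, 8, 3, 2, 4, 3, 5, 4, 6, 5, 7, 6, 8, 3, 2, 1, 4, 3, 5, 4, 8],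
    [3, 8, 9, 6, 7, 5, 6, 4, 5, 3, 4, 2, 3, 8, 0, 8, 3, 2, 4, 3, 5, 4, 6, 5, 7, 6, 8, 3, 2, 4, 3, 5, 4, 8, 3, 2, 1, 0, 1, 2, 3, 8, 4, 5, 3, 4, 2, 3, 8, 6, 7, 5, 6, 4, 5, 3, 4, 2, 3, 8, 0, 8, 3, 2, 4, 3, 5, 4, 6, 5, 7, 6, 9, 8, 3],
    [6, 5, 4, 2, 3, 8, 9, 7, 6, 5, 4, 3, 8, 0, 8, 3, 2, 4, 3, 5, 4, 6, 5, 7, 6, 8, 3, 2, 4, 3, 5, 4, 8, 3, 2, 1, 0, 1, 2, 3, 8, 4, 5, 3, 4, 2, 3, 8, 6, 7, 5, 6, 4, 5, 3, 4, 2, 3, 8, 0, 8, 3, 4, 5, 6, 7, 9, 8, 3, 2, 4, 5, 6],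
    [6, 7, 5, 6, 4, 5, 3, 4, 1, 4, 3, 5, 4, 6, 5, 7, 6, 8, 3, 2, 4, 3, 5, 4, 8, 3, 2, 1, 0, 1, 2, 3, 8, 4, 5, 3, 4, 2, 3, 8, 6, 7, 5, 6, 4, 5, 3, 4, 1, 4, 3, 5, 4, 6, 5, 7, 6],
    [8, 6, 7, 5, 6, 4, 5, 2, 3, 4, 1, 4, 3, 5, 4, 6, 5, 7, 6, 8, 3, 2, 4, 3, 5, 4, 8, 3, 2, 1, 0, 1, 2, 3, 8, 4, 5, 3, 4, 2, 3, 8, 6, 7, 5, 6, 4, 5, 3, 4, 1, 4, 3, 2, 5, 4, 6, 5, 7, 6, 8],
    [3, 8, 5, 2, 3, 4, 1, 2, 3, 8, 6, 7, 5, 6, 4, 5, 3, 4, 2, 3, 8, 0, 8, 3, 2, 4, 3, 5, 4, 6, 5, 7, 6, 8, 3, 2, 4, 3, 5, 4, 8, 3, 2, 1, 0, 1, 2, 3, 8, 4, 5, 3, 4, 2, 3, 8, 6, 7, 5, 6, 4, 5, 3, 4, 2, 3, 8, 0, 8, 3, 2, 4, 3, 5, 4, 6, 5, 7, 6, 8, 3, 2, 1, 4, 3, 2, 5, 8, 3],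
    [3, 8, 6, 7, 5, 6, 4, 5, 3, 4, 1, 4, 3, 5, 4, 6, 5, 7, 6, 8, 3, 2, 4, 3, 5, 4, 8, 3, 2, 1, 0, 1, 2, 3, 8, 4, 5, 3, 4, 2, 3, 8, 6, 7, 5, 6, 4, 5, 3, 4, 1, 4, 3, 5, 4, 6, 5, 7, 6, 8, 3],
    [6, 5, 4, 3, 8, 9, 7, 6, 5, 4, 2, 4, 3, 5, 4, 6, 5, 7, 6, 8, 3, 2, 4, 3, 5, 4, 8, 3, 2, 1, 0, 1, 2, 3, 8, 4, 5, 3, 4, 2, 3, 8, 6, 7, 5, 6, 4, 5, 3, 4, 2, 4, 5, 6, 7, 9, 8, 3, 4, 5, 6]]
  base := 867
  size := 15120
  pts := fun j => force (get48 ptsStore3 j) fun e =>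
    Nat.add (Nat.mul (Nat.div e 16777216) 1099511627776) (Nat.mod e 16777216)
  pos := get48 posStore3

theorem gens3_ok : Cfsg.Agent.CosetCert.Fi23Index31671.data.checkGens [0, 52, 1] level3 = true := by decide +kernel

theorem pts3At0 : allFrom (Cfsg.Agent.CosetCert.Fi23Index31671.data.checkPoint level3) 0 500 = true := by decide +kernel

theorem pts3At500 : allFrom (Cfsg.Agent.CosetCert.Fi23Index31671.data.checkPoint level3) 500 500 = true := by decide +kernel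

theorem pts3At1000 : allFrom (Cfsg.Agent.CosetCert.Fi23Index31671.data.checkPoint level3) 1000 500 = true := by decide +kernel

theorem pts3At1500 : allFrom (Cfsg.Agent.CosetCert.Fi23Index31671.data.checkPoint level3) 1500 500 = true := by decide +kernel

theorem pts3At2000 : allFrom (Cfsg.Agent.CosetCert.Fi23Index31671.data.checkPoint level3) 2000 500 = true := by decide +kernel

theorem pts3At2500 : allFrom (Cfsg.Agent.CosetCert.Fi23Index31671.data.checkPoint level3) 2500 500 = true := by decide +kernel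

theorem pts3At3000 : allFrom (Cfsg.Agent.CosetCert.Fi23Index31671.data.checkPoint level3) 3000 500 = true := by decide +kernel

theorem pts3At3500 : allFrom (Cfsg.Agent.CosetCert.Fi23Index31671.data.checkPoint level3) 3500 500 = true := by decide +kernel

theorem pts3At4000 : allFrom (Cfsg.Agent.CosetCert.Fi23Index31671.data.checkPoint level3) 4000 500 = true := by decide +kernel

theorem pts3At4500 : allFrom (Cfsg.Agent.CosetCert.Fi23Index31671.data.checkPoint level3) 4500 500 = true := by decide +kernel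

theorem pts3At5000 : allFrom (Cfsg.Agent.CosetCert.Fi23Index31671.data.checkPoint level3) 5000 500 = true := by decide +kernel

theorem pts3At5500 : allFrom (Cfsg.Agent.CosetCert.Fi23Index31671.data.checkPoint level3) 5500 500 = true := by decide +kernel

theorem pts3At6000 : allFrom (Cfsg.Agent.CosetCert.Fi23Index31671.data.checkPoint level3) 6000 500 = true := by decide +kernel

theorem pts3At6500 : allFrom (Cfsg.Agent.CosetCert.Fi23Index31671.data.checkPoint level3) 6500 500 = true := by decide +kernel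

theorem pts3At7000 : allFrom (Cfsg.Agent.CosetCert.Fi23Index31671.data.checkPoint level3) 7000 500 = true := by decide +kernel

theorem pts3At7500 : allFrom (Cfsg.Agent.CosetCert.Fi23Index31671.data.checkPoint level3) 7500 500 = true := by decide +kernel

theorem pts3At8000 : allFrom (Cfsg.Agent.CosetCert.Fi23Index31671.data.checkPoint level3) 8000 500 = true := by decide +kernel

theorem pts3At8500 : allFrom (Cfsg.Agent.CosetCert.Fi23Index31671.data.checkPoint level3) 8500 500 = true := by decide +kernel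

theorem pts3At9000 : allFrom (Cfsg.Agent.CosetCert.Fi23Index31671.data.checkPoint level3) 9000 500 = true := by decide +kernel

theorem pts3At9500 : allFrom (Cfsg.Agent.CosetCert.Fi23Index31671.data.checkPoint level3) 9500 500 = true := by decide +kernel

theorem pts3At10000 : allFrom (Cfsg.Agent.CosetCert.Fi23Index31671.data.checkPoint level3) 10000 500 = true := by decide +kernel

theorem pts3At10500 : allFrom (Cfsg.Agent.CosetCert.Fi23Index31671.data.checkPoint level3) 10500 500 = true := by decide +kernel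

theorem pts3At11000 : allFrom (Cfsg.Agent.CosetCert.Fi23Index31671.data.checkPoint level3) 11000 500 = true := by decide +kernel

theorem pts3At11500 : allFrom (Cfsg.Agent.CosetCert.Fi23Index31671.data.checkPoint level3) 11500 500 = true := by decide +kernel

theorem pts3At12000 : allFrom (Cfsg.Agent.CosetCert.Fi23Index31671.data.checkPoint level3) 12000 500 = true := by decide +kernel

theorem pts3At12500 : allFrom (Cfsg.Agent.CosetCert.Fi23Index31671.data.checkPoint level3) 12500 500 = true := by decide +kernel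

theorem pts3At13000 : allFrom (Cfsg.Agent.CosetCert.Fi23Index31671.data.checkPoint level3) 13000 500 = true := by decide +kernel

theorem pts3At13500 : allFrom (Cfsg.Agent.CosetCert.Fi23Index31671.data.checkPoint level3) 13500 500 = true := by decide +kernel

theorem pts3At14000 : allFrom (Cfsg.Agent.CosetCert.Fi23Index31671.data.checkPoint level3) 14000 500 = true := by decide +kernel

theorem pts3At14500 : allFrom (Cfsg.Agent.CosetCert.Fi23Index31671.data.checkPoint level3) 14500 500 = true := by decide +kernel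

theorem pts3At15000 : allFrom (Cfsg.Agent.CosetCert.Fi23Index31671.data.checkPoint level3) 15000 120 = true := by decide +kernel

theorem pts3_ok : ∀ j, j < 15120 → (Cfsg.Agent.CosetCert.Fi23Index31671.data.checkPoint level3) j = true := by
  have h0 : ∀ j, j < 0 → (Cfsg.Agent.CosetCert.Fi23Index31671.data.checkPoint level3) j = true := forall_lt_zero
  have h1 := forall_lt_step (b := 500) h0 pts3At0 rfl
  have h2 := forall_lt_step (b := 1000) h1 pts3At500 rfl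
  have h3 := forall_lt_step (b := 1500) h2 pts3At1000 rfl
  have h4 := forall_lt_step (b := 2000) h3 pts3At1500 rfl
  have h5 := forall_lt_step (b := 2500) h4 pts3At2000 rfl
  have h6 := forall_lt_step (b := 3000) h5 pts3At2500 rfl
  have h7 := forall_lt_step (b := 3500) h6 pts3At3000 rfl
  have h8 := forall_lt_step (b := 4000) h7 pts3At3500 rfl
  have h9 := forall_lt_step (b := 4500) h8 pts3At4000 rfl
  have h10 := forall_lt_step (b := 5000) h9 pts3At4500 rfl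
  have h11 := forall_lt_step (b := 5500) h10 pts3At5000 rfl
  have h12 := forall_lt_step (b := 6000) h11 pts3At5500 rfl
  have h13 := forall_lt_step (b := 6500) h12 pts3At6000 rfl
  have h14 := forall_lt_step (b := 7000) h13 pts3At6500 rfl
  have h15 := forall_lt_step (b := 7500) h14 pts3At7000 rfl
  have h16 := forall_lt_step (b := 8000) h15 pts3At7500 rfl
  have h17 := forall_lt_step (b := 8500) h16 pts3At8000 rfl
  have h18 := forall_lt_step (b := 9000) h17 pts3At8500 rfl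
  have h19 := forall_lt_step (b := 9500) h18 pts3At9000 rfl
  have h20 := forall_lt_step (b := 10000) h19 pts3At9500 rfl
  have h21 := forall_lt_step (b := 10500) h20 pts3At10000 rfl
  have h22 := forall_lt_step (b := 11000) h21 pts3At10500 rfl
  have h23 := forall_lt_step (b := 11500) h22 pts3At11000 rfl
  have h24 := forall_lt_step (b := 12000) h23 pts3At11500 rfl
  have h25 := forall_lt_step (b := 12500) h24 pts3At12000 rfl
  have h26 := forall_lt_step (b := 13000) h25 pts3At12500 rfl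
  have h27 := forall_lt_step (b := 13500) h26 pts3At13000 rfl
  have h28 := forall_lt_step (b := 14000) h27 pts3At13500 rfl
  have h29 := forall_lt_step (b := 14500) h28 pts3At14000 rfl
  have h30 := forall_lt_step (b := 15000) h29 pts3At14500 rfl
  have h31 := forall_lt_step (b := 15120) h30 pts3At15000 rfl
  exact h31

end Cfsg.Agent.CosetCert.Fi23Order
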