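import Cfsg.Agent.CosetCert.Pack

/-! Generated: orbit points. -/

set_option Elab.async false

namespace Cfsg.Agent.CosetCert.Fi23Order

def ptsStore4 : Store := (.leaf 0x3a4003405002490001c05002be400190400051800180b00003700160400294400150b000cd6001407002a61001404001b930014030021ec00130300052900120b000da50012080005190010040027230010030003af000f07001614000f06001baf000e0a001e36000e080004fd000e07000517000e04003742000d0b001dce000d0a0017ac000d07000e7d000d03000526000c0b00004e000c07001deb000c04000718000b09000026000b04002498000a0b002c64000a0a0004fe000a09000a4100090b0009a800090700293c000905002ed40009040016370009030008e200080a00098c000808001dda000803002ef000070b0017e000070a00066a000709000c0500070800039200070700071c00060b0017c4000509002a7a0005070007060005060012e10005050031130005040022f900050300070800040b0004c100040a0000360004080005270004070011860004060009a70004040003b000030b000d8f00030a0024b30003080006e40003070007070003040017f00003030003b100020b0009a000020a001d99000209000a55000208001b7200020700230700020500318f0002040012be0002030032be00010b0021e000010a00069b000109001f5d000108001c9f00010700003a0001060008d300010500347a00010400220100010300004100010200003b00010100029700000b000ccc00000a0021a700000900260900000800204b000007000028000006002731000005003743000004001bbf00000300002e00000200005400000100002d00000000001f000000)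

end Cfsg.Agent.CosetCert.Fi23Order
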