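import Cfsg.Agent.CosetCert.Fi23Index31671.Defs
import Cfsg.Agent.CosetCert.Lower
import Cfsg.Agent.CosetCert.Fi23Order.Pts4
import Cfsg.Agent.CosetCert.Fi23Order.Pos4

/-! Generated: one base point with its orbit. -/

set_option Elab.async false
set_option maxRecDepth 100000

namespace Cfsg.Agent.CosetCert.Fi23Order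

noncomputable def level4 : Data.Level where
  gens := [
    [8, 4, 5, 2, 3, 4, 1, 2, 3, 8, 6, 7, 5, 6, 4, 5, 3, 4, 2, 3, 8, 0, 8, 3, 2, 4, 3, 5, 4, 6, 5, 7, 6, 8, 3, 2, 4, 3, 5, 4, 8, 3, 2, 1, 0, 1, 2, 3, 8, 4, 5, 3, 4, 2, 3, 8, 6, 7, 5, 6, 4, 5, 3, 4, 2, 3, 8, 0, 8, 3, 2, 4, 3, 5, 4, 6, 5, 7, 6, 8, 3, 2, 1, 4, 3, 2, 5, 4, 8],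
    [6, 7, 5, 6, 4, 5, 3, 4, 1, 4, 3, 5, 4, 6, 5, 7, 6, 8, 3, 2, 4, 3, 5, 4, 8, 3, 2, 1, 0, 1, 2, 3, 8, 4, 5, 3, 4, 2, 3, 8, 6, 7, 5, 6, 4, 5, 3, 4, 1, 4, 3, 5, 4, 6, 5, 7, 6],
    [4, 3, 8, 2, 3, 4, 1, 2, 3, 8, 6, 7, 5, 6, 4, 5, 3, 4, 2, 3, 8, 0, 8, 3, 2, 4, 3, 5, 4, 6, 5, 7, 6, 8, 3, 2, 4, 3, 5, 4, 8, 3, 2, 1, 0, 1, 2, 3, 8, 4, 5, 3, 4, 2, 3, 8, 6, 7, 5, 6, 4, 5, 3, 4, 2, 3, 8, 0, 8, 3, 2, 4, 3, 5, 4, 6, 5, 7, 6, 8, 3, 2, 1, 4, 3, 2, 8, 3, 4],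
    [6, 5, 3, 4, 2, 3, 8, 9, 7, 6, 5, 4, 2, 4, 3, 5, 4, 6, 5, 7, 6, 8, 3, 2, 4, 3, 5, 4, 8, 3, 2, 1, 0, 1, 2, 3, 8, 4, 5, 3, 4, 2, 3, 8, 6, 7, 5, 6, 4, 5, 3, 4, 2, 4, 5, 6, 7, 9, 8, 3, 2, 4, 3, 4, 3, 8, 9, 7, 6, 5, 4, 2, 4, 3, 5, 4, 6, 5, 7, 6, 8, 3, 2, 4, 3, 5, 4, 8, 3, 2, 1, 0, 1, 2, 3, 8, 4, 5, 3, 4, 2, 3, 8, 6, 7, 5, 6, 4, 5, 3, 4, 2, 4, 5, 6, 7, 9, 8, 3, 4, 5, 6, 0, 3, 8, 9, 6, 7, 5, 6, 4, 5, 3, 4, 2, 3, 8, 0, 8, 3, 2, 4, 3, 5, 4, 6, 5, 7, 6, 8, 3, 2, 4, 3, 5, 4, 8, 3, 2, 1, 0, 1, 2, 3, 8, 4, 5, 3, 4, 2, 3, 8, 6, 7, 5, 6, 4, 5, 3, 4, 2, 3, 8, 0, 8, 3, 2, 4, 3, 5, 4, 6, 5, 7, 6, 9, 6, 7, 5, 6, 4, 5, 3,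 4, 1, 4, 3, 5, 4, 6, 5, 7, 6, 8, 3, 2, 4, 3, 5, 4, 8, 3, 2, 1, 0, 1, 2, 3, 8, 4, 5, 3, 4, 2, 3, 8, 6, 7, 5, 6, 4, 5, 3, 4, 1, 4, 3, 5, 4, 6, 5, 7, 6, 9, 6, 7, 5, 6, 4, 5, 3, 4, 2, 3, 8, 0, 8, 3, 2, 4, 3, 5, 4, 6, 5, 7, 6, 8, 3, 2, 4, 3, 5, 4, 8, 3, 2, 1, 0, 1, 2, 3, 8, 4, 5, 3, 4, 2, 3, 8, 6, 7, 5, 6, 4, 5, 3, 4, 2, 3, 8, 0, 8, 3, 2, 4, 3, 5, 4, 6, 5, 7, 6, 9, 8, 3, 8, 4, 5, 3, 4, 1, 2, 3, 8, 6, 7, 5, 6, 4, 5, 3, 4, 2, 3, 8, 0, 8, 3, 2, 4, 3, 5, 4, 6, 5, 7, 6, 8, 3, 2, 4, 3, 5, 4, 8, 3, 2, 1, 0, 1, 2, 3, 8, 4, 5, 3, 4, 2, 3, 8, 6, 7, 5, 6, 4, 5, 3, 4, 2, 3, 8, 0, 8, 3, 2, 4, 3, 5, 4, 6, 5, 7, 6, 8, 3, 2, 1,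 4, 3, 5, 4, 8, 4, 2, 3, 8, 9, 6, 7, 5, 6, 4, 5, 3, 4, 2, 3, 8, 0, 8, 3, 2, 4, 3, 5, 4, 6, 5, 7, 6, 8, 3, 2, 4, 3, 5, 4, 8, 3, 2, 1, 0, 1, 2, 3, 8, 4, 5, 3, 4, 2, 3, 8, 6, 7, 5, 6, 4, 5, 3, 4, 2, 3, 8, 0, 8, 3, 2, 4, 3, 5, 4, 6, 5, 7, 6, 9, 8, 3, 2, 4, 3, 8, 5, 2, 3, 4, 1, 2, 3, 8, 6, 7, 5, 6, 4, 5, 3, 4, 2, 3, 8, 0, 8, 3, 2, 4, 3, 5, 4, 6, 5, 7, 6, 8, 3, 2, 4, 3, 5, 4, 8, 3, 2, 1, 0, 1, 2, 3, 8, 4, 5, 3, 4, 2, 3, 8, 6, 7, 5, 6, 4, 5, 3, 4, 2, 3, 8, 0, 8, 3, 2, 4, 3, 5, 4, 6, 5, 7, 6, 8, 3, 2, 1, 4, 3, 2, 5, 8, 3, 4, 2, 3, 8, 9, 6, 7, 5, 6, 4, 5, 3, 4, 2, 3, 8, 0, 8, 3, 2, 4, 3, 5, 4, 6, 5, 7, 6, 8, 3, 2, 4,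 3, 5, 4, 8, 3, 2, 1, 0, 1, 2, 3, 8, 4, 5, 3, 4, 2, 3, 8, 6, 7, 5, 6, 4, 5, 3, 4, 2, 3, 8, 0, 8, 3, 2, 4, 3, 5, 4, 6, 5, 7, 6, 9, 8, 3, 2, 4],
    [6, 4, 5, 3, 4, 2, 3, 8, 9, 7, 6, 5, 4, 2, 4, 3, 5, 4, 6, 5, 7, 6, 8, 3, 2, 4, 3, 5, 4, 8, 3, 2, 1, 0, 1, 2, 3, 8, 4, 5, 3, 4, 2, 3, 8, 6, 7, 5, 6, 4, 5, 3, 4, 2, 4, 5, 6, 7, 9, 8, 3, 2, 4, 3, 5, 4, 6, 4, 2, 3, 8, 9, 6, 7, 5, 6, 4, 5, 3, 4, 2, 3, 8, 0, 8, 3, 2, 4, 3, 5, 4, 6, 5, 7, 6, 8, 3, 2, 4, 3, 5, 4, 8, 3, 2, 1, 0, 1, 2, 3, 8, 4, 5, 3, 4, 2, 3, 8, 6, 7, 5, 6, 4, 5, 3, 4, 2, 3, 8, 0, 8, 3, 2, 4, 3, 5, 4, 6, 5, 7, 6, 9, 8, 3, 2, 4, 0, 6, 7, 5, 6, 4, 5, 3, 4, 1,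 4, 3, 5, 4, 6, 5, 7, 6, 8, 3, 2, 4, 3, 5, 4, 8, 3, 2, 1, 0, 1, 2, 3, 8, 4, 5, 3, 4, 2, 3, 8, 6, 7, 5, 6, 4, 5, 3, 4, 1, 4, 3, 5, 4, 6, 5, 7, 4, 5, 3, 4, 2, 3, 8, 9, 7, 6, 5, 4, 2, 4, 3, 5, 4, 6, 5, 7, 6, 8, 3, 2, 4, 3, 5, 4, 8, 3, 2, 1, 0, 1, 2, 3, 8, 4, 5, 3, 4, 2, 3, 8, 6, 7, 5, 6, 4, 5, 3, 4, 2, 4, 5, 6, 7, 9, 8, 3, 2, 4, 3, 5, 4, 6, 8, 6, 4, 5, 3, 4, 2, 3, 8, 9, 7, 6, 5, 4, 2, 4, 3, 5, 4, 6, 5, 7, 6, 8, 3, 2, 4, 3, 5, 4, 8, 3, 2, 1, 0, 1, 2, 3, 8, 4, 5, 3, 4, 2, 3, 8, 6, 7, 5, 6, 4, 5, 3, 4, 2, 4, 5, 6, 7, 9, 8, 3, 2, 4, 3, 5, 4, 6, 8, 6, 7, 5, 6, 4, 5, 3, 4, 1, 4, 3, 5, 4, 6, 5, 7, 6, 8, 3, 2, 4, 3, 5,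 4, 8, 3, 2, 1, 0, 1, 2, 3, 8, 4, 5, 3, 4, 2, 3, 8, 6, 7, 5, 6, 4, 5, 3, 4, 1, 4, 3, 5, 4, 6, 5, 7, 6, 3, 8, 6, 7, 5, 6, 4, 5, 3, 4, 1, 4, 3, 5, 4, 6, 5, 7, 6, 8, 3, 2, 4, 3, 5, 4, 8, 3, 2, 1, 0, 1, 2, 3, 8, 4, 5, 3, 4, 2, 3, 8, 6, 7, 5, 6, 4, 5, 3, 4, 1, 4, 3, 5, 4, 6, 5, 7, 6, 8, 3, 4, 2, 3, 8, 9, 6, 7, 5, 6, 4, 5, 3, 4, 2, 3, 8, 0, 8, 3, 2, 4, 3, 5, 4, 6, 5, 7, 6, 8, 3, 2, 4, 3, 5, 4, 8, 3, 2, 1, 0, 1, 2, 3, 8, 4, 5, 3, 4, 2, 3, 8, 6, 7, 5, 6, 4, 5, 3, 4, 2, 3, 8, 0, 8, 3, 2, 4, 3, 5, 4, 6, 5, 7, 6, 9, 8, 3, 2, 4, 3, 8, 5, 2, 3, 4, 1, 2, 3, 8, 6, 7, 5, 6, 4, 5, 3, 4, 2, 3, 8, 0, 8, 3, 2, 4, 3, 5, 4, 6, 5,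 7, 6, 8, 3, 2, 4, 3, 5, 4, 8, 3, 2, 1, 0, 1, 2, 3, 8, 4, 5, 3, 4, 2, 3, 8, 6, 7, 5, 6, 4, 5, 3, 4, 2, 3, 8, 0, 8, 3, 2, 4, 3, 5, 4, 6, 5, 7, 6, 8, 3, 2, 1, 4, 3, 2, 5, 8, 3, 6, 5, 4, 2, 3, 8, 9, 7, 6, 5, 4, 3, 8, 0, 8, 3, 2, 4, 3, 5, 4, 6, 5, 7, 6, 8, 3, 2, 4, 3, 5, 4, 8, 3, 2, 1, 0, 1, 2, 3, 8, 4, 5, 3, 4, 2, 3, 8, 6, 7, 5, 6, 4, 5, 3, 4, 2, 3, 8, 0, 8, 3, 4, 5, 6, 7, 9, 8, 3, 2, 4, 5, 6, 3, 8, 9, 6, 7, 5, 6, 4, 5, 3, 4, 2, 3, 8, 0, 8, 3, 2, 4, 3, 5, 4, 6, 5, 7, 6, 8, 3, 2, 4, 3, 5, 4, 8, 3, 2, 1, 0, 1, 2, 3, 8, 4, 5, 3, 4, 2, 3, 8, 6, 7, 5, 6, 4, 5, 3, 4, 2, 3, 8, 0, 8, 3, 2, 4, 3, 5, 4, 6, 5, 7, 6, 9, 8,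 3, 4, 2, 3, 8, 9, 6, 7, 5, 6, 4, 5, 3, 4, 2, 3, 8, 0, 8, 3, 2, 4, 3, 5, 4, 6, 5, 7, 6, 8, 3, 2, 4, 3, 5, 4, 8, 3, 2, 1, 0, 1, 2, 3, 8, 4, 5, 3, 4, 2, 3, 8, 6, 7, 5, 6, 4, 5, 3, 4, 2, 3, 8, 0, 8, 3, 2, 4, 3, 5, 4, 6, 5, 7, 6, 9, 8, 3, 2, 4],
    [0, 6, 4, 5, 3, 4, 2, 3, 8, 9, 7, 6, 5, 4, 2, 4, 3, 5, 4, 6, 5, 7, 6, 8, 3, 2, 4, 3, 5, 4, 8, 3, 2, 1, 0, 1, 2, 3, 8, 4, 5, 3, 4, 2, 3, 8, 6, 7, 5, 6, 4, 5, 3, 4, 2, 4, 5, 6, 7, 9, 8, 3, 2, 4, 3, 5, 4, 5, 4, 2, 3, 8, 9, 7, 6, 5, 4, 3, 8, 0, 8, 3, 2, 4, 3, 5, 4, 6, 5, 7, 6, 8, 3, 2, 4, 3, 5, 4, 8, 3, 2, 1, 0, 1, 2, 3, 8, 4, 5, 3, 4, 2, 3, 8, 6, 7, 5, 6, 4, 5, 3, 4, 2,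 3, 8, 0, 8, 3, 4, 5, 6, 7, 9, 8, 3, 2, 4, 5, 7, 5, 6, 4, 5, 3, 4, 1, 4, 3, 5, 4, 6, 5, 7, 6, 8, 3, 2, 4, 3, 5, 4, 8, 3, 2, 1, 0, 1, 2, 3, 8, 4, 5, 3, 4, 2, 3, 8, 6, 7, 5, 6, 4, 5, 3, 4, 1, 4, 3, 5, 4, 6, 5, 7, 5, 4, 3, 8, 9, 7, 6, 5, 4, 2, 4, 3, 5, 4, 6, 5, 7, 6, 8, 3, 2, 4, 3, 5, 4, 8, 3, 2, 1, 0, 1, 2, 3, 8, 4, 5, 3, 4, 2, 3, 8, 6, 7, 5, 6, 4, 5, 3, 4, 2, 4, 5, 6, 7, 9, 8, 3, 4, 5, 6, 0, 8, 4, 5, 3, 4, 1, 2, 3, 8, 6, 7, 5, 6, 4, 5, 3, 4, 2, 3, 8, 0, 8, 3, 2, 4, 3, 5, 4, 6, 5, 7, 6, 8, 3, 2, 4, 3, 5, 4, 8, 3, 2, 1, 0, 1, 2, 3, 8, 4, 5, 3, 4, 2, 3, 8, 6, 7, 5, 6, 4, 5, 3, 4, 2, 3, 8, 0, 8, 3, 2, 4, 3, 5, 4,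 6, 5, 7, 6, 8, 3, 2, 1, 4, 3, 5, 4, 8, 3, 8, 5, 2, 3, 4, 1, 2, 3, 8, 6, 7, 5, 6, 4, 5, 3, 4, 2, 3, 8, 0, 8, 3, 2, 4, 3, 5, 4, 6, 5, 7, 6, 8, 3, 2, 4, 3, 5, 4, 8, 3, 2, 1, 0, 1, 2, 3, 8, 4, 5, 3, 4, 2, 3, 8, 6, 7, 5, 6, 4, 5, 3, 4, 2, 3, 8, 0, 8, 3, 2, 4, 3, 5, 4, 6, 5, 7, 6, 8, 3, 2, 1, 4, 3, 2, 5, 8, 3, 4, 2, 3, 8, 9, 6, 7, 5, 6, 4, 5, 3, 4, 2, 3, 8, 0, 8, 3, 2, 4, 3, 5, 4, 6, 5, 7, 6, 8, 3, 2, 4, 3, 5, 4, 8, 3, 2, 1, 0, 1, 2, 3, 8, 4, 5, 3, 4, 2, 3, 8, 6, 7, 5, 6, 4, 5, 3, 4, 2, 3, 8, 0, 8, 3, 2, 4, 3, 5, 4, 6, 5, 7, 6, 9, 8, 3, 2, 4, 3, 8, 6, 7, 5, 6, 4, 5, 3, 4, 1, 4, 3, 5, 4, 6, 5, 7, 6, 8, 3, 2, 4, 3,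 5, 4, 8, 3, 2, 1, 0, 1, 2, 3, 8, 4, 5, 3, 4, 2, 3, 8, 6, 7, 5, 6, 4, 5, 3, 4, 1, 4, 3, 5, 4, 6, 5, 7, 6, 8, 3, 5, 4, 3, 8, 6, 7, 5, 6, 4, 5, 3, 4, 1, 4, 3, 5, 4, 6, 5, 7, 6, 8, 3, 2, 4, 3, 5, 4, 8, 3, 2, 1, 0, 1, 2, 3, 8, 4, 5, 3, 4, 2, 3, 8, 6, 7, 5, 6, 4, 5, 3, 4, 1, 4, 3, 5, 4, 6, 5, 7, 6, 8, 3, 4, 5, 4, 2, 3, 8, 9, 6, 7, 5, 6, 4, 5, 3, 4, 2, 3, 8, 0, 8, 3, 2, 4, 3, 5, 4, 6, 5, 7, 6, 8, 3, 2, 4, 3, 5, 4, 8, 3, 2, 1, 0, 1, 2, 3, 8, 4, 5, 3, 4, 2, 3, 8, 6, 7, 5, 6, 4, 5, 3, 4, 2, 3, 8, 0, 8, 3, 2, 4, 3, 5, 4, 6, 5, 7, 6, 9, 8, 3, 2, 4, 6, 4, 5, 3, 4, 2, 3, 8, 9, 7, 6, 5, 4, 2, 4, 3, 5, 4, 6, 5, 7, 6, 8, 3,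 2, 4, 3, 5, 4, 8, 3, 2, 1, 0, 1, 2, 3, 8, 4, 5, 3, 4, 2, 3, 8, 6, 7, 5, 6, 4, 5, 3, 4, 2, 4, 5, 6, 7, 9, 8, 3, 2, 4, 3, 5, 4, 6, 4, 2, 3, 8, 9, 6, 7, 5, 6, 4, 5, 3, 4, 2, 3, 8, 0, 8, 3, 2, 4, 3, 5, 4, 6, 5, 7, 6, 8, 3, 2, 4, 3, 5, 4, 8, 3, 2, 1, 0, 1, 2, 3, 8, 4, 5, 3, 4, 2, 3, 8, 6, 7, 5, 6, 4, 5, 3, 4, 2, 3, 8, 0, 8, 3, 2, 4, 3, 5, 4, 6, 5, 7, 6, 9, 8, 3, 2, 4],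
    [4, 2, 3, 8, 9, 6, 7, 5, 6, 4, 5, 3, 4, 2, 3, 8, 0, 8, 3, 2, 4, 3, 5, 4, 6, 5, 7, 6, 8, 3, 2, 4, 3, 5, 4, 8, 3, 2, 1, 0, 1, 2, 3, 8, 4, 5, 3, 4, 2, 3, 8, 6, 7, 5, 6, 4, 5, 3, 4, 2, 3, 8, 0, 8, 3, 2, 4, 3, 5, 4, 6, 5, 7, 6, 9, 8, 3, 2, 4, 8, 4, 5, 3, 4, 1, 2, 3, 8, 6, 7, 5, 6, 4, 5, 3, 4, 2, 3, 8, 0, 8, 3, 2, 4, 3, 5, 4, 6, 5, 7, 6, 8, 3, 2, 4, 3, 5, 4, 8, 3, 2, 1, 0, 1, 2, 3, 8, 4, 5, 3, 4, 2, 3, 8, 6, 7, 5, 6, 4, 5, 3, 4, 2, 3, 8, 0, 8, 3, 2, 4, 3, 5, 4, 6, 5, 7, 6, 8, 3, 2, 1, 4, 3, 5, 4, 8, 3, 8, 9, 6, 7, 5, 6, 4, 5, 3, 4, 2, 3, 8, 0, 8, 3, 2, 4, 3, 5, 4, 6, 5, 7, 6, 8, 3, 2, 4, 3, 5, 4, 8, 3, 2, 1,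 0, 1, 2, 3, 8, 4, 5, 3, 4, 2, 3, 8, 6, 7, 5, 6, 4, 5, 3, 4, 2, 3, 8, 0, 8, 3, 2, 4, 3, 5, 4, 6, 5, 7, 6, 9, 8, 3, 0, 6, 4, 5, 3, 4, 2, 3, 8, 9, 7, 6, 5, 4, 2, 4, 3, 5, 4, 6, 5, 7, 6, 8, 3, 2, 4, 3, 5, 4, 8, 3, 2, 1, 0, 1, 2, 3, 8, 4, 5, 3, 4, 2, 3, 8, 6, 7, 5, 6, 4, 5, 3, 4, 2, 4, 5, 6, 7, 9, 8, 3, 2, 4, 3, 5, 4, 6, 8, 6, 4, 5, 3, 4, 2, 3, 8, 9, 7, 6, 5, 4, 2, 4, 3, 5, 4, 6, 5, 7, 6, 8, 3, 2, 4, 3, 5, 4, 8, 3, 2, 1, 0, 1, 2, 3, 8, 4, 5, 3, 4, 2, 3, 8, 6, 7, 5, 6, 4, 5, 3, 4, 2, 4, 5, 6, 7, 9, 8, 3, 2, 4, 3, 5, 4, 6, 8, 6, 4, 5, 3, 4, 2, 3, 8, 9, 7, 6, 5, 4, 2, 4, 3, 5, 4, 6, 5, 7, 6, 8, 3, 2, 4, 3, 5, 4, 8,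 3, 2, 1, 0, 1, 2, 3, 8, 4, 5, 3, 4, 2, 3, 8, 6, 7, 5, 6, 4, 5, 3, 4, 2, 4, 5, 6, 7, 9, 8, 3, 2, 4, 3, 5, 4, 6, 0, 6, 5, 4, 2, 3, 8, 9, 7, 6, 5, 4, 3, 8, 0, 8, 3, 2, 4, 3, 5, 4, 6, 5, 7, 6, 8, 3, 2, 4, 3, 5, 4, 8, 3, 2, 1, 0, 1, 2, 3, 8, 4, 5, 3, 4, 2, 3, 8, 6, 7, 5, 6, 4, 5, 3, 4, 2, 3, 8, 0, 8, 3, 4, 5, 6, 7, 9, 8, 3, 2, 4, 5, 6, 5, 4, 3, 8, 6, 7, 5, 6, 4, 5, 3, 4, 1, 4, 3, 5, 4, 6, 5, 7, 6, 8, 3, 2, 4, 3, 5, 4, 8, 3, 2, 1, 0, 1, 2, 3, 8, 4, 5, 3, 4, 2, 3, 8, 6, 7, 5, 6, 4, 5, 3, 4, 1, 4, 3, 5, 4, 6, 5, 7, 6, 8, 3, 4, 5, 3, 8, 9, 6, 7, 5, 6, 4, 5, 3, 4, 2, 3, 8, 0, 8, 3, 2, 4, 3, 5, 4, 6, 5, 7, 6, 8, 3, 2,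 4, 3, 5, 4, 8, 3, 2, 1, 0, 1, 2, 3, 8, 4, 5, 3, 4, 2, 3, 8, 6, 7, 5, 6, 4, 5, 3, 4, 2, 3, 8, 0, 8, 3, 2, 4, 3, 5, 4, 6, 5, 7, 6, 9, 8, 3, 8, 4, 5, 3, 4, 1, 2, 3, 8, 6, 7, 5, 6, 4, 5, 3, 4, 2, 3, 8, 0, 8, 3, 2, 4, 3, 5, 4, 6, 5, 7, 6, 8, 3, 2, 4, 3, 5, 4, 8, 3, 2, 1, 0, 1, 2, 3, 8, 4, 5, 3, 4, 2, 3, 8, 6, 7, 5, 6, 4, 5, 3, 4, 2, 3, 8, 0, 8, 3, 2, 4, 3, 5, 4, 6, 5, 7, 6, 8, 3, 2, 1, 4, 3, 5, 4, 6, 4, 5, 3, 4, 2, 3, 8, 9, 7, 6, 5, 4, 2, 4, 3, 5, 4, 6, 5, 7, 6, 8, 3, 2, 4, 3, 5, 4, 8, 3, 2, 1, 0, 1, 2, 3, 8, 4, 5, 3, 4, 2, 3, 8, 6, 7, 5, 6, 4, 5, 3, 4, 2, 4, 5, 6, 7, 9, 8, 3, 2, 4, 3, 5, 4, 6, 8, 4, 2, 3, 8, 9,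 6, 7, 5, 6, 4, 5, 3, 4, 2, 3, 8, 0, 8, 3, 2, 4, 3, 5, 4, 6, 5, 7, 6, 8, 3, 2, 4, 3, 5, 4, 8, 3, 2, 1, 0, 1, 2, 3, 8, 4, 5, 3, 4, 2, 3, 8, 6, 7, 5, 6, 4, 5, 3, 4, 2, 3, 8, 0, 8, 3, 2, 4, 3, 5, 4, 6, 5, 7, 6, 9, 8, 3, 2, 4],
    [4, 2, 3, 8, 9, 6, 7, 5, 6, 4, 5, 3, 4, 2, 3, 8, 0, 8, 3, 2, 4, 3, 5, 4, 6, 5, 7, 6, 8, 3, 2, 4, 3, 5, 4, 8, 3, 2, 1, 0, 1, 2, 3, 8, 4, 5, 3, 4, 2, 3, 8, 6, 7, 5, 6, 4, 5, 3, 4, 2, 3, 8, 0, 8, 3, 2, 4, 3, 5, 4, 6, 5, 7, 6, 9, 8, 3, 2, 4, 6, 5, 4, 2, 3, 8, 9, 7, 6, 5, 4, 3, 8, 0, 8, 3, 2, 4, 3, 5, 4, 6, 5, 7, 6, 8, 3, 2, 4, 3, 5, 4, 8, 3, 2, 1, 0, 1, 2, 3, 8, 4, 5, 3, 4, 2, 3, 8, 6, 7,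 5, 6, 4, 5, 3, 4, 2, 3, 8, 0, 8, 3, 4, 5, 6, 7, 9, 8, 3, 2, 4, 5, 6, 0, 3, 8, 5, 2, 3, 4, 1, 2, 3, 8, 6, 7, 5, 6, 4, 5, 3, 4, 2, 3, 8, 0, 8, 3, 2, 4, 3, 5, 4, 6, 5, 7, 6, 8, 3, 2, 4, 3, 5, 4, 8, 3, 2, 1, 0, 1, 2, 3, 8, 4, 5, 3, 4, 2, 3, 8, 6, 7, 5, 6, 4, 5, 3, 4, 2, 3, 8, 0, 8, 3, 2, 4, 3, 5, 4, 6, 5, 7, 6, 8, 3, 2, 1, 4, 3, 2, 5, 8, 3, 8, 4, 5, 3, 4, 1, 2, 3, 8, 6, 7, 5, 6, 4, 5, 3, 4, 2, 3, 8, 0, 8, 3, 2, 4, 3, 5, 4, 6, 5, 7, 6, 8, 3, 2, 4, 3, 5, 4, 8, 3, 2, 1, 0, 1, 2, 3, 8, 4, 5, 3, 4, 2, 3, 8, 6, 7, 5, 6, 4, 5, 3, 4, 2, 3, 8, 0, 8, 3, 2, 4, 3, 5, 4, 6, 5, 7, 6, 8, 3, 2, 1, 4, 3, 5, 4, 8, 6, 5, 4, 3, 8,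 9, 7, 6, 5, 4, 2, 4, 3, 5, 4, 6, 5, 7, 6, 8, 3, 2, 4, 3, 5, 4, 8, 3, 2, 1, 0, 1, 2, 3, 8, 4, 5, 3, 4, 2, 3, 8, 6, 7, 5, 6, 4, 5, 3, 4, 2, 4, 5, 6, 7, 9, 8, 3, 4, 5, 6, 3, 8, 9, 6, 7, 5, 6, 4, 5, 3, 4, 2, 3, 8, 0, 8, 3, 2, 4, 3, 5, 4, 6, 5, 7, 6, 8, 3, 2, 4, 3, 5, 4, 8, 3, 2, 1, 0, 1, 2, 3, 8, 4, 5, 3, 4, 2, 3, 8, 6, 7, 5, 6, 4, 5, 3, 4, 2, 3, 8, 0, 8, 3, 2, 4, 3, 5, 4, 6, 5, 7, 6, 9, 5, 2, 3, 4, 1, 2, 3, 8, 6, 7, 5, 6, 4, 5, 3, 4, 2, 3, 8, 0, 8, 3, 2, 4, 3, 5, 4, 6, 5, 7, 6, 8, 3, 2, 4, 3, 5, 4, 8, 3, 2, 1, 0, 1, 2, 3, 8, 4, 5, 3, 4, 2, 3, 8, 6, 7, 5, 6, 4, 5, 3, 4, 2, 3, 8, 0, 8, 3, 2, 4, 3, 5, 4, 6, 5, 7,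 6, 8, 3, 2, 1, 4, 3, 2, 5, 6, 7, 5, 6, 4, 5, 3, 4, 1, 4, 3, 5, 4, 6, 5, 7, 6, 8, 3, 2, 4, 3, 5, 4, 8, 3, 2, 1, 0, 1, 2, 3, 8, 4, 5, 3, 4, 2, 3, 8, 6, 7, 5, 6, 4, 5, 3, 4, 1, 4, 3, 5, 4, 6, 5, 7, 6, 5, 2, 3, 4, 1, 2, 3, 8, 6, 7, 5, 6, 4, 5, 3, 4, 2, 3, 8, 0, 8, 3, 2, 4, 3, 5, 4, 6, 5, 7, 6, 8, 3, 2, 4, 3, 5, 4, 8, 3, 2, 1, 0, 1, 2, 3, 8, 4, 5, 3, 4, 2, 3, 8, 6, 7, 5, 6, 4, 5, 3, 4, 2, 3, 8, 0, 8, 3, 2, 4, 3, 5, 4, 6, 5, 7, 6, 8, 3, 2, 1, 4, 3, 2, 5, 8, 3, 8, 4, 5, 3, 4, 1, 2, 3, 8, 6, 7, 5, 6, 4, 5, 3, 4, 2, 3, 8, 0, 8, 3, 2, 4, 3, 5, 4, 6, 5, 7, 6, 8, 3, 2, 4, 3, 5, 4, 8, 3, 2, 1, 0, 1, 2, 3, 8, 4, 5, 3, 4,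 2, 3, 8, 6, 7, 5, 6, 4, 5, 3, 4, 2, 3, 8, 0, 8, 3, 2, 4, 3, 5, 4, 6, 5, 7, 6, 8, 3, 2, 1, 4, 3, 5, 4, 8],
    [4, 2, 3, 8, 9, 6, 7, 5, 6, 4, 5, 3, 4, 2, 3, 8, 0, 8, 3, 2, 4, 3, 5, 4, 6, 5, 7, 6, 8, 3, 2, 4, 3, 5, 4, 8, 3, 2, 1, 0, 1, 2, 3, 8, 4, 5, 3, 4, 2, 3, 8, 6, 7, 5, 6, 4, 5, 3, 4, 2, 3, 8, 0, 8, 3, 2, 4, 3, 5, 4, 6, 5, 7, 6, 9, 8, 3, 2, 4, 8, 6, 4, 5, 3, 4, 2, 3, 8, 9, 7, 6, 5, 4, 2, 4, 3, 5, 4, 6, 5, 7, 6, 8, 3, 2, 4, 3, 5, 4, 8, 3, 2, 1, 0, 1, 2, 3, 8, 4, 5, 3, 4, 2, 3, 8, 6, 7, 5, 6, 4, 5, 3, 4, 2, 4, 5, 6, 7, 9, 8, 3, 2, 4, 3, 5, 4, 6, 8, 6, 5, 4, 2, 3, 8, 9, 7, 6, 5, 4, 3, 8, 0, 8, 3, 2, 4, 3, 5,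 4, 6, 5, 7, 6, 8, 3, 2, 4, 3, 5, 4, 8, 3, 2, 1, 0, 1, 2, 3, 8, 4, 5, 3, 4, 2, 3, 8, 6, 7, 5, 6, 4, 5, 3, 4, 2, 3, 8, 0, 8, 3, 4, 5, 6, 7, 9, 8, 3, 2, 4, 5, 6, 0, 4, 2, 3, 8, 9, 6, 7, 5, 6, 4, 5, 3, 4, 2, 3, 8, 0, 8, 3, 2, 4, 3, 5, 4, 6, 5, 7, 6, 8, 3, 2, 4, 3, 5, 4, 8, 3, 2, 1, 0, 1, 2, 3, 8, 4, 5, 3, 4, 2, 3, 8, 6, 7, 5, 6, 4, 5, 3, 4, 2, 3, 8, 0, 8, 3, 2, 4, 3, 5, 4, 6, 5, 7, 6, 9, 8, 3, 2, 4, 6, 4, 5, 3, 4, 2, 3, 8, 9, 7, 6, 5, 4, 2, 4, 3, 5, 4, 6, 5, 7, 6, 8, 3, 2, 4, 3, 5, 4, 8, 3, 2, 1, 0, 1, 2, 3, 8, 4, 5, 3, 4, 2, 3, 8, 6, 7, 5, 6, 4, 5, 3, 4, 2, 4, 5, 6, 7, 9, 8, 3, 2, 4, 3, 5, 4, 6, 3, 8, 6, 7, 5,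 6, 4, 5, 3, 4, 1, 4, 3, 5, 4, 6, 5, 7, 6, 8, 3, 2, 4, 3, 5, 4, 8, 3, 2, 1, 0, 1, 2, 3, 8, 4, 5, 3, 4, 2, 3, 8, 6, 7, 5, 6, 4, 5, 3, 4, 1, 4, 3, 5, 4, 6, 5, 7, 6, 9, 6, 7, 5, 6, 4, 5, 3, 4, 2, 3, 8, 0, 8, 3, 2, 4, 3, 5, 4, 6, 5, 7, 6, 8, 3, 2, 4, 3, 5, 4, 8, 3, 2, 1, 0, 1, 2, 3, 8, 4, 5, 3, 4, 2, 3, 8, 6, 7, 5, 6, 4, 5, 3, 4, 2, 3, 8, 0, 8, 3, 2, 4, 3, 5, 4, 6, 5, 7, 6, 9, 8, 3, 8, 6, 4, 5, 3, 4, 2, 3, 8, 9, 7, 6, 5, 4, 2, 4, 3, 5, 4, 6, 5, 7, 6, 8, 3, 2, 4, 3, 5, 4, 8, 3, 2, 1, 0, 1, 2, 3, 8, 4, 5, 3, 4, 2, 3, 8, 6, 7, 5, 6, 4, 5, 3, 4, 2, 4, 5, 6, 7, 9, 8, 3, 2, 4, 3, 5, 4, 6, 8, 6, 4, 5, 3, 4, 2, 3, 8, 9,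 7, 6, 5, 4, 2, 4, 3, 5, 4, 6, 5, 7, 6, 8, 3, 2, 4, 3, 5, 4, 8, 3, 2, 1, 0, 1, 2, 3, 8, 4, 5, 3, 4, 2, 3, 8, 6, 7, 5, 6, 4, 5, 3, 4, 2, 4, 5, 6, 7, 9, 8, 3, 2, 4, 3, 5, 4, 6, 4, 2, 3, 8, 9, 6, 7, 5, 6, 4, 5, 3, 4, 2, 3, 8, 0, 8, 3, 2, 4, 3, 5, 4, 6, 5, 7, 6, 8, 3, 2, 4, 3, 5, 4, 8, 3, 2, 1, 0, 1, 2, 3, 8, 4, 5, 3, 4, 2, 3, 8, 6, 7, 5, 6, 4, 5, 3, 4, 2, 3, 8, 0, 8, 3, 2, 4, 3, 5, 4, 6, 5, 7, 6, 9, 8, 3, 2, 4, 5, 4, 3, 8, 6, 7, 5, 6, 4, 5, 3, 4, 1, 4, 3, 5, 4, 6, 5, 7, 6, 8, 3, 2, 4, 3, 5, 4, 8, 3, 2, 1, 0, 1, 2, 3, 8, 4, 5, 3, 4, 2, 3, 8, 6, 7, 5, 6, 4, 5, 3, 4, 1, 4, 3, 5, 4, 6, 5, 7, 6, 8, 3, 4, 5, 3, 8, 6,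 7, 5, 6, 4, 5, 3, 4, 1, 4, 3, 5, 4, 6, 5, 7, 6, 8, 3, 2, 4, 3, 5, 4, 8, 3, 2, 1, 0, 1, 2, 3, 8, 4, 5, 3, 4, 2, 3, 8, 6, 7, 5, 6, 4, 5, 3, 4, 1, 4, 3, 5, 4, 6, 5, 7, 6, 8, 3, 4, 2, 3, 8, 9, 6, 7, 5, 6, 4, 5, 3, 4, 2, 3, 8, 0, 8, 3, 2, 4, 3, 5, 4, 6, 5, 7, 6, 8, 3, 2, 4, 3, 5, 4, 8, 3, 2, 1, 0, 1, 2, 3, 8, 4, 5, 3, 4, 2, 3, 8, 6, 7, 5, 6, 4, 5, 3, 4, 2, 3, 8, 0, 8, 3, 2, 4, 3, 5, 4, 6, 5, 7, 6, 9, 8, 3, 2, 4],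
    [6, 4, 5, 3, 4, 2, 3, 8, 9, 7, 6, 5, 4, 2, 4, 3, 5, 4, 6, 5, 7, 6, 8, 3, 2, 4, 3, 5, 4, 8, 3, 2, 1, 0, 1, 2, 3, 8, 4, 5, 3, 4, 2, 3, 8, 6, 7, 5, 6, 4, 5, 3, 4, 2, 4, 5, 6, 7, 9, 8, 3, 2, 4, 3, 5, 4, 6, 8, 6, 4, 5, 3, 4, 2, 3, 8, 9, 7, 6, 5, 4, 2, 4, 3, 5, 4, 6, 5, 7, 6, 8, 3, 2, 4, 3, 5, 4, 8, 3, 2, 1, 0, 1, 2, 3, 8, 4, 5, 3, 4, 2, 3, 8, 6, 7, 5, 6, 4, 5, 3, 4, 2, 4, 5, 6, 7, 9, 8, 3, 2, 4, 3, 5, 4, 6, 8, 6, 5, 4, 3, 8, 9, 7, 6, 5, 4, 2, 4, 3, 5, 4, 6, 5, 7, 6, 8, 3, 2, 4, 3, 5, 4, 8, 3, 2, 1, 0, 1, 2, 3, 8, 4, 5, 3, 4, 2, 3, 8, 6, 7, 5, 6, 4, 5, 3, 4, 2, 4, 5, 6, 7, 9, 8, 3, 4, 5, 6, 3, 8, 9, 6, 7, 5,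 6, 4, 5, 3, 4, 2, 3, 8, 0, 8, 3, 2, 4, 3, 5, 4, 6, 5, 7, 6, 8, 3, 2, 4, 3, 5, 4, 8, 3, 2, 1, 0, 1, 2, 3, 8, 4, 5, 3, 4, 2, 3, 8, 6, 7, 5, 6, 4, 5, 3, 4, 2, 3, 8, 0, 8, 3, 2, 4, 3, 5, 4, 6, 5, 7, 6, 9, 8, 3, 6, 5, 4, 2, 3, 8, 9, 7, 6, 5, 4, 3, 8, 0, 8, 3, 2, 4, 3, 5, 4, 6, 5, 7, 6, 8, 3, 2, 4, 3, 5, 4, 8, 3, 2, 1, 0, 1, 2, 3, 8, 4, 5, 3, 4, 2, 3, 8, 6, 7, 5, 6, 4, 5, 3, 4, 2, 3, 8, 0, 8, 3, 4, 5, 6, 7, 9, 8, 3, 2, 4, 5, 6, 0, 8, 6, 4, 5, 3, 4, 2, 3, 8, 9, 7, 6, 5, 4, 2, 4, 3, 5, 4, 6, 5, 7, 6, 8, 3, 2, 4, 3, 5, 4, 8, 3, 2, 1, 0, 1, 2, 3, 8, 4, 5, 3, 4, 2, 3, 8, 6, 7, 5, 6, 4, 5, 3, 4, 2, 4, 5, 6, 7, 9, 8, 3,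 2, 4, 3, 5, 4, 6, 8, 6, 4, 5, 3, 4, 2, 3, 8, 9, 7, 6, 5, 4, 2, 4, 3, 5, 4, 6, 5, 7, 6, 8, 3, 2, 4, 3, 5, 4, 8, 3, 2, 1, 0, 1, 2, 3, 8, 4, 5, 3, 4, 2, 3, 8, 6, 7, 5, 6, 4, 5, 3, 4, 2, 4, 5, 6, 7, 9, 8, 3, 2, 4, 3, 5, 4, 7, 5, 6, 4, 5, 3, 4, 1, 4, 3, 5, 4, 6, 5, 7, 6, 8, 3, 2, 4, 3, 5, 4, 8, 3, 2, 1, 0, 1, 2, 3, 8, 4, 5, 3, 4, 2, 3, 8, 6, 7, 5, 6, 4, 5, 3, 4, 1, 4, 3, 5, 4, 6, 5, 7, 6, 8, 4, 5, 3, 4, 1, 2, 3, 8, 6, 7, 5, 6, 4, 5, 3, 4, 2, 3, 8, 0, 8, 3, 2, 4, 3, 5, 4, 6, 5, 7, 6, 8, 3, 2, 4, 3, 5, 4, 8, 3, 2, 1, 0, 1, 2, 3, 8, 4, 5, 3, 4, 2, 3, 8, 6, 7, 5, 6, 4, 5, 3, 4, 2, 3, 8, 0, 8, 3, 2, 4, 3, 5, 4, 6, 5,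 7, 6, 8, 3, 2, 1, 4, 3, 5, 4, 8, 3, 8, 5, 2, 3, 4, 1, 2, 3, 8, 6, 7, 5, 6, 4, 5, 3, 4, 2, 3, 8, 0, 8, 3, 2, 4, 3, 5, 4, 6, 5, 7, 6, 8, 3, 2, 4, 3, 5, 4, 8, 3, 2, 1, 0, 1, 2, 3, 8, 4, 5, 3, 4, 2, 3, 8, 6, 7, 5, 6, 4, 5, 3, 4, 2, 3, 8, 0, 8, 3, 2, 4, 3, 5, 4, 6, 5, 7, 6, 8, 3, 2, 1, 4, 3, 2, 5, 8, 3],
    [4, 2, 3, 8, 9, 6, 7, 5, 6, 4, 5, 3, 4, 2, 3, 8, 0, 8, 3, 2, 4, 3, 5, 4, 6, 5, 7, 6, 8, 3, 2, 4, 3, 5, 4, 8, 3, 2, 1, 0, 1, 2, 3, 8, 4, 5, 3, 4, 2, 3, 8, 6, 7, 5, 6, 4, 5, 3, 4, 2, 3, 8, 0, 8, 3, 2, 4, 3, 5, 4, 6, 5, 7, 6, 9, 8, 3, 2, 4, 3, 8, 6, 7, 5, 6, 4, 5, 3, 4, 1, 4, 3, 5, 4, 6, 5, 7, 6, 8, 3, 2, 4, 3,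 5, 4, 8, 3, 2, 1, 0, 1, 2, 3, 8, 4, 5, 3, 4, 2, 3, 8, 6, 7, 5, 6, 4, 5, 3, 4, 1, 4, 3, 5, 4, 6, 5, 7, 6, 8, 3, 6, 7, 5, 6, 4, 5, 3, 4, 1, 4, 3, 5, 4, 6, 5, 7, 6, 8, 3, 2, 4, 3, 5, 4, 8, 3, 2, 1, 0, 1, 2, 3, 8, 4, 5, 3, 4, 2, 3, 8, 6, 7, 5, 6, 4, 5, 3, 4, 1, 4, 3, 5, 4, 6, 5, 7, 6, 8, 4, 5, 3, 4, 1, 2, 3, 8, 6, 7, 5, 6, 4, 5, 3, 4, 2, 3, 8, 0, 8, 3, 2, 4, 3, 5, 4, 6, 5, 7, 6, 8, 3, 2, 4, 3, 5, 4, 8, 3, 2, 1, 0, 1, 2, 3, 8, 4, 5, 3, 4, 2, 3, 8, 6, 7, 5, 6, 4, 5, 3, 4, 2, 3, 8, 0, 8, 3, 2, 4, 3, 5, 4, 6, 5, 7, 6, 8, 3, 2, 1, 4, 3, 5, 4, 6, 4, 5, 3, 4, 2, 3, 8, 9, 7, 6, 5, 4, 2, 4, 3, 5, 4, 6, 5, 7, 6, 8, 3, 2,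 4, 3, 5, 4, 8, 3, 2, 1, 0, 1, 2, 3, 8, 4, 5, 3, 4, 2, 3, 8, 6, 7, 5, 6, 4, 5, 3, 4, 2, 4, 5, 6, 7, 9, 8, 3, 2, 4, 3, 5, 4, 6, 8, 6, 5, 4, 2, 3, 8, 9, 7, 6, 5, 4, 3, 8, 0, 8, 3, 2, 4, 3, 5, 4, 6, 5, 7, 6, 8, 3, 2, 4, 3, 5, 4, 8, 3, 2, 1, 0, 1, 2, 3, 8, 4, 5, 3, 4, 2, 3, 8, 6, 7, 5, 6, 4, 5, 3, 4, 2, 3, 8, 0, 8, 3, 4, 5, 6, 7, 9, 8, 3, 2, 4, 5, 6, 3, 8, 9, 6, 7, 5, 6, 4, 5, 3, 4, 2, 3, 8, 0, 8, 3, 2, 4, 3, 5, 4, 6, 5, 7, 6, 8, 3, 2, 4, 3, 5, 4, 8, 3, 2, 1, 0, 1, 2, 3, 8, 4, 5, 3, 4, 2, 3, 8, 6, 7, 5, 6, 4, 5, 3, 4, 2, 3, 8, 0, 8, 3, 2, 4, 3, 5, 4, 6, 5, 7, 6, 9, 8, 3, 8, 6, 4, 5, 3, 4, 2, 3, 8, 9, 7, 6, 5, 4,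 2, 4, 3, 5, 4, 6, 5, 7, 6, 8, 3, 2, 4, 3, 5, 4, 8, 3, 2, 1, 0, 1, 2, 3, 8, 4, 5, 3, 4, 2, 3, 8, 6, 7, 5, 6, 4, 5, 3, 4, 2, 4, 5, 6, 7, 9, 8, 3, 2, 4, 3, 5, 4, 6, 4, 5, 3, 4, 1, 2, 3, 8, 6, 7, 5, 6, 4, 5, 3, 4, 2, 3, 8, 0, 8, 3, 2, 4, 3, 5, 4, 6, 5, 7, 6, 8, 3, 2, 4, 3, 5, 4, 8, 3, 2, 1, 0, 1, 2, 3, 8, 4, 5, 3, 4, 2, 3, 8, 6, 7, 5, 6, 4, 5, 3, 4, 2, 3, 8, 0, 8, 3, 2, 4, 3, 5, 4, 6, 5, 7, 6, 8, 3, 2, 1, 4, 3, 5, 4, 8, 3, 8, 5, 2, 3, 4, 1, 2, 3, 8, 6, 7, 5, 6, 4, 5, 3, 4, 2, 3, 8, 0, 8, 3, 2, 4, 3, 5, 4, 6, 5, 7, 6, 8, 3, 2, 4, 3, 5, 4, 8, 3, 2, 1, 0, 1, 2, 3, 8, 4, 5, 3, 4, 2, 3, 8, 6, 7, 5, 6, 4, 5, 3, 4, 2,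 3, 8, 0, 8, 3, 2, 4, 3, 5, 4, 6, 5, 7, 6, 8, 3, 2, 1, 4, 3, 2, 5, 8, 3, 5, 4, 3, 8, 6, 7, 5, 6, 4, 5, 3, 4, 1, 4, 3, 5, 4, 6, 5, 7, 6, 8, 3, 2, 4, 3, 5, 4, 8, 3, 2, 1, 0, 1, 2, 3, 8, 4, 5, 3, 4, 2, 3, 8, 6, 7, 5, 6, 4, 5, 3, 4, 1, 4, 3, 5, 4, 6, 5, 7, 6, 8, 3, 4, 5],
    [4, 2, 3, 8, 9, 6, 7, 5, 6, 4, 5, 3, 4, 2, 3, 8, 0, 8, 3, 2, 4, 3, 5, 4, 6, 5, 7, 6, 8, 3, 2, 4, 3, 5, 4, 8, 3, 2, 1, 0, 1, 2, 3, 8, 4, 5, 3, 4, 2, 3, 8, 6, 7, 5, 6, 4, 5, 3, 4, 2, 3, 8, 0, 8, 3, 2, 4, 3, 5, 4, 6, 5, 7, 6, 9, 8, 3, 2, 4, 6, 5, 4, 2, 3, 8, 9, 7, 6, 5, 4, 3, 8, 0, 8, 3, 2, 4, 3, 5, 4, 6, 5, 7, 6, 8, 3, 2, 4, 3, 5, 4, 8, 3, 2,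 1, 0, 1, 2, 3, 8, 4, 5, 3, 4, 2, 3, 8, 6, 7, 5, 6, 4, 5, 3, 4, 2, 3, 8, 0, 8, 3, 4, 5, 6, 7, 9, 8, 3, 2, 4, 5, 6, 3, 8, 6, 7, 5, 6, 4, 5, 3, 4, 1, 4, 3, 5, 4, 6, 5, 7, 6, 8, 3, 2, 4, 3, 5, 4, 8, 3, 2, 1, 0, 1, 2, 3, 8, 4, 5, 3, 4, 2, 3, 8, 6, 7, 5, 6, 4, 5, 3, 4, 1, 4, 3, 5, 4, 6, 5, 7, 6, 8, 3, 4, 2, 3, 8, 9, 6, 7, 5, 6, 4, 5, 3, 4, 2, 3, 8, 0, 8, 3, 2, 4, 3, 5, 4, 6, 5, 7, 6, 8, 3, 2, 4, 3, 5, 4, 8, 3, 2, 1, 0, 1, 2, 3, 8, 4, 5, 3, 4, 2, 3, 8, 6, 7, 5, 6, 4, 5, 3, 4, 2, 3, 8, 0, 8, 3, 2, 4, 3, 5, 4, 6, 5, 7, 6, 9, 8, 3, 2, 4, 5, 4, 3, 8, 6, 7, 5, 6, 4, 5, 3, 4, 1, 4, 3, 5, 4, 6, 5, 7, 6, 8, 3, 2, 4, 3, 5,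 4, 8, 3, 2, 1, 0, 1, 2, 3, 8, 4, 5, 3, 4, 2, 3, 8, 6, 7, 5, 6, 4, 5, 3, 4, 1, 4, 3, 5, 4, 6, 5, 7, 6, 8, 3, 4, 5, 6, 5, 4, 3, 8, 9, 7, 6, 5, 4, 2, 4, 3, 5, 4, 6, 5, 7, 6, 8, 3, 2, 4, 3, 5, 4, 8, 3, 2, 1, 0, 1, 2, 3, 8, 4, 5, 3, 4, 2, 3, 8, 6, 7, 5, 6, 4, 5, 3, 4, 2, 4, 5, 6, 7, 9, 8, 3, 4, 5, 6, 8, 6, 7, 5, 6, 4, 5, 2, 3, 4, 1, 4, 3, 5, 4, 6, 5, 7, 6, 8, 3, 2, 4, 3, 5, 4, 8, 3, 2, 1, 0, 1, 2, 3, 8, 4, 5, 3, 4, 2, 3, 8, 6, 7, 5, 6, 4, 5, 3, 4, 1, 4, 3, 2, 5, 4, 6, 5, 7, 6, 8, 4, 2, 3, 8, 9, 6, 7, 5, 6, 4, 5, 3, 4, 2, 3, 8, 0, 8, 3, 2, 4, 3, 5, 4, 6, 5, 7, 6, 8, 3, 2, 4, 3, 5, 4, 8, 3, 2, 1, 0, 1, 2, 3, 8, 4,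 5, 3, 4, 2, 3, 8, 6, 7, 5, 6, 4, 5, 3, 4, 2, 3, 8, 0, 8, 3, 2, 4, 3, 5, 4, 6, 5, 7, 6, 9, 8, 3, 2, 4, 3, 8, 6, 7, 5, 6, 4, 5, 3, 4, 1, 4, 3, 5, 4, 6, 5, 7, 6, 8, 3, 2, 4, 3, 5, 4, 8, 3, 2, 1, 0, 1, 2, 3, 8, 4, 5, 3, 4, 2, 3, 8, 6, 7, 5, 6, 4, 5, 3, 4, 1, 4, 3, 5, 4, 6, 5, 7, 6, 5, 2, 3, 4, 1, 2, 3, 8, 6, 7, 5, 6, 4, 5, 3, 4, 2, 3, 8, 0, 8, 3, 2, 4, 3, 5, 4, 6, 5, 7, 6, 8, 3, 2, 4, 3, 5, 4, 8, 3, 2, 1, 0, 1, 2, 3, 8, 4, 5, 3, 4, 2, 3, 8, 6, 7, 5, 6, 4, 5, 3, 4, 2, 3, 8, 0, 8, 3, 2, 4, 3, 5, 4, 6, 5, 7, 6, 8, 3, 2, 1, 4, 3, 2, 5, 8, 3, 5, 4, 3, 8, 6, 7, 5, 6, 4, 5, 3, 4, 1, 4, 3, 5, 4, 6, 5, 7, 6, 8, 3, 2, 4,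 3, 5, 4, 8, 3, 2, 1, 0, 1, 2, 3, 8, 4, 5, 3, 4, 2, 3, 8, 6, 7, 5, 6, 4, 5, 3, 4, 1, 4, 3, 5, 4, 6, 5, 7, 6, 8, 3, 4, 5, 0, 8, 6, 4, 5, 3, 4, 2, 3, 8, 9, 7, 6, 5, 4, 2, 4, 3, 5, 4, 6, 5, 7, 6, 8, 3, 2, 4, 3, 5, 4, 8, 3, 2, 1, 0, 1, 2, 3, 8, 4, 5, 3, 4, 2, 3, 8, 6, 7, 5, 6, 4, 5, 3, 4, 2, 4, 5, 6, 7, 9, 8, 3, 2, 4, 3, 5, 4, 6, 8, 4, 2, 3, 8, 9, 6, 7, 5, 6, 4, 5, 3, 4, 2, 3, 8, 0, 8, 3, 2, 4, 3, 5, 4, 6, 5, 7, 6, 8, 3, 2, 4, 3, 5, 4, 8, 3, 2, 1, 0, 1, 2, 3, 8, 4, 5, 3, 4, 2, 3, 8, 6, 7, 5, 6, 4, 5, 3, 4, 2, 3, 8, 0, 8, 3, 2, 4, 3, 5, 4, 6, 5, 7, 6, 9, 8, 3, 2, 4]]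
  base := 31
  size := 96
  pts := fun j => force (get48 ptsStore4 j) fun e =>
    Nat.add (Nat.mul (Nat.div e 16777216) 1099511627776) (Nat.mod e 16777216)
  pos := get48 posStore4

theorem gens4_ok : Cfsg.Agent.CosetCert.Fi23Index31671.data.checkGens [0, 52, 1, 867] level4 = true := by decide +kernel

theorem pts4At0 : allFrom (Cfsg.Agent.CosetCert.Fi23Index31671.data.checkPoint level4) 0 96 = true := by decide +kernel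

theorem pts4_ok : ∀ j, j < 96 → (Cfsg.Agent.CosetCert.Fi23Index31671.data.checkPoint level4) j = true := by
  have h0 : ∀ j, j < 0 → (Cfsg.Agent.CosetCert.Fi23Index31671.data.checkPoint level4) j = true := forall_lt_zero
  have h1 := forall_lt_step (b := 96) h0 pts4At0 rfl
  exact h1

end Cfsg.Agent.CosetCert.Fi23Order
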