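import Cfsg.Agent.CosetCert.Fi23Chain1.Main
import Cfsg.Agent.CosetCert.Fi23Chain2.Main
import Cfsg.Agent.CosetCert.Fi23Chain3.Main
import Cfsg.Agent.CosetCert.Fi22Chain3.Main
import Cfsg.Agent.CosetCert.Fi22Chain4.Main
import Cfsg.Agent.CosetCert.Fi22Chain5.Main
import Cfsg.Agent.CosetCert.Fi23Order.Level0
import Cfsg.Agent.CosetCert.Fi23Order.Close
import Cfsg.Agent.CosetCert.Fi23Order.Level1
import Cfsg.Agent.CosetCert.Fi23Order.Level2
import Cfsg.Agent.CosetCert.Fi23Order.Level3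
import Cfsg.Agent.CosetCert.Fi23Order.Level4
import Cfsg.Agent.CosetCert.Fi23Collapse.Main
import Cfsg.Agent.CosetCert.Fi23Index31671.Main
import Cfsg.Agent.CosetCert.Simple

/-! Generated: order and simplicity of the presented group Fi23. -/

set_option maxRecDepth 100000

namespace Cfsg.Agent.CosetCert.Fi23Order

/-- Names of the generators of the step 4. -/
def ren4 : Fin 6 → Cfsg.Spor.Fi23.Gen
  | ⟨0, _⟩ => .c
  | ⟨1, _⟩ => .d
  | ⟨2, _⟩ => .e
  | ⟨3, _⟩ => .f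
  | ⟨4, _⟩ => .g
  | ⟨5, _⟩ => .h

/-- Names of the generators of the step 5. -/
def ren5 : Fin 5 → Cfsg.Spor.Fi23.Gen
  | ⟨0, _⟩ => .c
  | ⟨1, _⟩ => .d
  | ⟨2, _⟩ => .e
  | ⟨3, _⟩ => .f
  | ⟨4, _⟩ => .h

/-- Names of the generators of the step 6. -/
def ren6 : Fin 4 → Cfsg.Spor.Fi23.Gen
  | ⟨0, _⟩ => .d
  | ⟨1, _⟩ => .e
  | ⟨2, _⟩ => .f
  | ⟨3, _⟩ => .h

theorem rels_ok : ∀ l ∈ coxWords Cfsg.Agent.CosetCert.Fi23Index31671.genList Cfsg.Spor.Fi23.edges Cfsg.Spor.Fi23.extra,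
    PresentedGroup.mk (Cfsg.Spor.coxRelators Cfsg.Spor.Fi23.edges ∪ {r | r ∈ Cfsg.Spor.Fi23.extra}) (FreeGroup.mk l) = 1 :=
  Cfsg.Agent.CosetCert.Fi23Index31671.spells.rels_one

theorem stab_bound : Finite (letterSub (Cfsg.Spor.coxRelators Cfsg.Spor.Fi23.edges ∪ {r | r ∈ Cfsg.Spor.Fi23.extra}) [Cfsg.Spor.Fi23.Gen.a, Cfsg.Spor.Fi23.Gen.b, Cfsg.Spor.Fi23.Gen.c, Cfsg.Spor.Fi23.Gen.d, Cfsg.Spor.Fi23.Gen.e, Cfsg.Spor.Fi23.Gen.f, Cfsg.Spor.Fi23.Gen.g, Cfsg.Spor.Fi23.Gen.h, Cfsg.Spor.Fi23.Gen.i]) ∧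
    Nat.card (letterSub (Cfsg.Spor.coxRelators Cfsg.Spor.Fi23.edges ∪ {r | r ∈ Cfsg.Spor.Fi23.extra}) [Cfsg.Spor.Fi23.Gen.a, Cfsg.Spor.Fi23.Gen.b, Cfsg.Spor.Fi23.Gen.c, Cfsg.Spor.Fi23.Gen.d, Cfsg.Spor.Fi23.Gen.e, Cfsg.Spor.Fi23.Gen.f, Cfsg.Spor.Fi23.Gen.g, Cfsg.Spor.Fi23.Gen.h, Cfsg.Spor.Fi23.Gen.i]) ≤ 129123503308800 := by
  have h7 := letterSub_nil_card (Cfsg.Spor.coxRelators Cfsg.Spor.Fi23.edges ∪ {r | r ∈ Cfsg.Spor.Fi23.extra})
  have h6 := letterSub_card_le ren6 (List.finRange 4) Cfsg.Agent.CosetCert.Fi22Chain5.subLetters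
    [] rfl List.mem_finRange
    (fun l hl => rels_ok _ (by
      have h : (Cfsg.Agent.CosetCert.Fi22Chain5.relWords.all fun l => decide (l.map (fun a => (ren6 a.1, a.2)) ∈
          coxWords Cfsg.Agent.CosetCert.Fi23Index31671.genList Cfsg.Spor.Fi23.edges Cfsg.Spor.Fi23.extra)) = true := by decide +kernel
      exact of_decide_eq_true (List.all_eq_true.1 h l hl)))
    Cfsg.Agent.CosetCert.Fi22Chain5.index_bound h7
  have h5 := letterSub_card_le ren5 (List.finRange 5) Cfsg.Agent.CosetCert.Fi22Chain4.subLetters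
    [Cfsg.Spor.Fi23.Gen.d, Cfsg.Spor.Fi23.Gen.e, Cfsg.Spor.Fi23.Gen.f, Cfsg.Spor.Fi23.Gen.h] rfl List.mem_finRange
    (fun l hl => rels_ok _ (by
      have h : (Cfsg.Agent.CosetCert.Fi22Chain4.relWords.all fun l => decide (l.map (fun a => (ren5 a.1, a.2)) ∈
          coxWords Cfsg.Agent.CosetCert.Fi23Index31671.genList Cfsg.Spor.Fi23.edges Cfsg.Spor.Fi23.extra)) = true := by decide +kernel
      exact of_decide_eq_true (List.all_eq_true.1 h l hl)))
    Cfsg.Agent.CosetCert.Fi22Chain4.index_bound h6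
  have h4 := letterSub_card_le ren4 (List.finRange 6) Cfsg.Agent.CosetCert.Fi22Chain3.subLetters
    [Cfsg.Spor.Fi23.Gen.c, Cfsg.Spor.Fi23.Gen.d, Cfsg.Spor.Fi23.Gen.e, Cfsg.Spor.Fi23.Gen.f, Cfsg.Spor.Fi23.Gen.h] rfl List.mem_finRange
    (fun l hl => rels_ok _ (by
      have h : (Cfsg.Agent.CosetCert.Fi22Chain3.relWords.all fun l => decide (l.map (fun a => (ren4 a.1, a.2)) ∈
          coxWords Cfsg.Agent.CosetCert.Fi23Index31671.genList Cfsg.Spor.Fi23.edges Cfsg.Spor.Fi23.extra)) = true := by decide +kernel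
      exact of_decide_eq_true (List.all_eq_true.1 h l hl)))
    Cfsg.Agent.CosetCert.Fi22Chain3.index_bound h5
  have h3 := letterSub_card_le Cfsg.Agent.CosetCert.Fi23Chain3.ren (List.finRange 7) Cfsg.Agent.CosetCert.Fi23Chain3.subLetters
    [Cfsg.Spor.Fi23.Gen.c, Cfsg.Spor.Fi23.Gen.d, Cfsg.Spor.Fi23.Gen.e, Cfsg.Spor.Fi23.Gen.f, Cfsg.Spor.Fi23.Gen.g, Cfsg.Spor.Fi23.Gen.h] rfl List.mem_finRange
    (fun l hl => rels_ok _ (by
      have h : (Cfsg.Agent.CosetCert.Fi23Chain3.relWords.all fun l => decide (l.map (fun a => (Cfsg.Agent.CosetCert.Fi23Chain3.ren a.1, a.2)) ∈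
          coxWords Cfsg.Agent.CosetCert.Fi23Index31671.genList Cfsg.Spor.Fi23.edges Cfsg.Spor.Fi23.extra)) = true := by decide +kernel
      exact of_decide_eq_true (List.all_eq_true.1 h l hl)))
    Cfsg.Agent.CosetCert.Fi23Chain3.index_bound h4
  have h2 := letterSub_card_le Cfsg.Agent.CosetCert.Fi23Chain2.ren (List.finRange 8) Cfsg.Agent.CosetCert.Fi23Chain2.subLetters
    [Cfsg.Spor.Fi23.Gen.b, Cfsg.Spor.Fi23.Gen.c, Cfsg.Spor.Fi23.Gen.d, Cfsg.Spor.Fi23.Gen.e, Cfsg.Spor.Fi23.Gen.f, Cfsg.Spor.Fi23.Gen.g, Cfsg.Spor.Fi23.Gen.h] rfl List.mem_finRange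
    (fun l hl => rels_ok _ (by
      have h : (Cfsg.Agent.CosetCert.Fi23Chain2.relWords.all fun l => decide (l.map (fun a => (Cfsg.Agent.CosetCert.Fi23Chain2.ren a.1, a.2)) ∈
          coxWords Cfsg.Agent.CosetCert.Fi23Index31671.genList Cfsg.Spor.Fi23.edges Cfsg.Spor.Fi23.extra)) = true := by decide +kernel
      exact of_decide_eq_true (List.all_eq_true.1 h l hl)))
    Cfsg.Agent.CosetCert.Fi23Chain2.index_bound h3
  have h1 := letterSub_card_le Cfsg.Agent.CosetCert.Fi23Chain1.ren (List.finRange 9) Cfsg.Agent.CosetCert.Fi23Chain1.subLetters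
    [Cfsg.Spor.Fi23.Gen.b, Cfsg.Spor.Fi23.Gen.c, Cfsg.Spor.Fi23.Gen.d, Cfsg.Spor.Fi23.Gen.e, Cfsg.Spor.Fi23.Gen.f, Cfsg.Spor.Fi23.Gen.g, Cfsg.Spor.Fi23.Gen.h, Cfsg.Spor.Fi23.Gen.i] rfl List.mem_finRange
    (fun l hl => rels_ok _ (by
      have h : (Cfsg.Agent.CosetCert.Fi23Chain1.relWords.all fun l => decide (l.map (fun a => (Cfsg.Agent.CosetCert.Fi23Chain1.ren a.1, a.2)) ∈
          coxWords Cfsg.Agent.CosetCert.Fi23Index31671.genList Cfsg.Spor.Fi23.edges Cfsg.Spor.Fi23.extra)) = true := by decide +kernel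
      exact of_decide_eq_true (List.all_eq_true.1 h l hl)))
    Cfsg.Agent.CosetCert.Fi23Chain1.index_bound h2
  exact ⟨h1.1, h1.2.trans (by decide +kernel)⟩

theorem card_bound : Finite Cfsg.Spor.Fi23 ∧ Nat.card Cfsg.Spor.Fi23 ≤ 4089470473293004800 := by
  obtain ⟨hf, hc⟩ := card_le_top [Cfsg.Spor.Fi23.Gen.a, Cfsg.Spor.Fi23.Gen.b, Cfsg.Spor.Fi23.Gen.c, Cfsg.Spor.Fi23.Gen.d, Cfsg.Spor.Fi23.Gen.e, Cfsg.Spor.Fi23.Gen.f, Cfsg.Spor.Fi23.Gen.g, Cfsg.Spor.Fi23.Gen.h, Cfsg.Spor.Fi23.Gen.i] (Sg := Cfsg.Agent.CosetCert.Fi23Index31671.subGens) rfl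
    ⟨(Data.index_eq Cfsg.Agent.CosetCert.Fi23Index31671.valid Cfsg.Agent.CosetCert.Fi23Index31671.spells).trans_ne (by decide +kernel), (Data.index_eq Cfsg.Agent.CosetCert.Fi23Index31671.valid Cfsg.Agent.CosetCert.Fi23Index31671.spells).le⟩ stab_bound
  exact ⟨hf, hc.trans (by decide +kernel)⟩

/-- The word whose normal closure is everything. -/
def closeWord : List (Cfsg.Spor.Fi23.Gen × Bool) := [(.f, true), (.b, true), (.j, true), (.g, true), (.d, true), (.i, true), (.h, true), (.c, true), (.e, true), (.i, true), (.a, true)]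

theorem close_normal : ∀ M : Subgroup Cfsg.Spor.Fi23, M.Normal →
    PresentedGroup.mk (Cfsg.Spor.coxRelators Cfsg.Spor.Fi23.edges ∪ {r | r ∈ Cfsg.Spor.Fi23.extra}) (FreeGroup.mk closeWord) ∈ M → M = ⊤ := by
  intro M hM hz
  have hcheck : (Cfsg.Agent.CosetCert.Fi23Collapse.relWords.all fun l => decide
      ((l.map fun a => (Cfsg.Agent.CosetCert.Fi23Collapse.ren a.1, a.2)) ∈ closeWord :: coxWords Cfsg.Agent.CosetCert.Fi23Index31671.genList Cfsg.Spor.Fi23.edges Cfsg.Spor.Fi23.extra)) = true := by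
    decide +kernel
  refine Data.normal_eq_top_of_mem Cfsg.Agent.CosetCert.Fi23Collapse.log_valid Cfsg.Agent.CosetCert.Fi23Collapse.spells rfl rfl Cfsg.Agent.CosetCert.Fi23Collapse.ren
    (fun z => ?_) _ (fun l hl => ?_) M hM hz
  · cases z <;> decide +kernel
  · rcases List.mem_cons.1 (of_decide_eq_true (List.all_eq_true.1 hcheck l hl)) with h | h
    · exact Or.inr h
    · exact Or.inl (rels_ok _ h)

noncomputable def suborbitList : List Data.Orb :=
  [⟨Cfsg.Agent.CosetCert.Fi23Index31671.orbSet0, 1, get48 Cfsg.Agent.CosetCert.Fi23Index31671.orbStore0⟩, ⟨Cfsg.Agent.CosetCert.Fi23Index31671.orbSet1, 52, get48 Cfsg.Agent.CosetCert.Fi23Index31671.orbStore1⟩]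

theorem suborbits : Data.Suborbits Cfsg.Agent.CosetCert.Fi23Index31671.data suborbitList where
  ok := by
    simp only [suborbitList, List.forall_mem_cons, List.not_mem_nil, false_imp_iff, implies_true,
      and_true]
    exact ⟨⟨Cfsg.Agent.CosetCert.Fi23Index31671.orb0_root, Cfsg.Agent.CosetCert.Fi23Index31671.orb0_ok⟩, ⟨Cfsg.Agent.CosetCert.Fi23Index31671.orb1_root, Cfsg.Agent.CosetCert.Fi23Index31671.orb1_ok⟩⟩
  cover := by
    intro c hc
    have h : allFrom (fun c => Nat.beq c 0 || suborbitList.any fun o => o.set.testBit c) 0 31671 = true := by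
      decide +kernel
    rcases Bool.or_eq_true_iff.1 ((allFrom_iff _ _ _).1 h c (Nat.zero_le _) (by rw [Nat.zero_add]; exact hc)) with h | h
    · exact Or.inl (Nat.eq_of_beq_eq_true h)
    · exact Or.inr (List.any_eq_true.1 h)
  arith := by
    have h : ((Data.unions suborbitList).all fun u => decide
        (Data.count u 31671 ∣ 31671 → Data.count u 31671 = 1 ∨ Data.count u 31671 = 31671)) = true := by
      decide +kernel
    exact fun u hu => of_decide_eq_true (List.all_eq_true.1 h u hu)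

noncomputable def levels : List Data.Level := [level0, level1, level2, level3, level4]

theorem levels_ok : Cfsg.Agent.CosetCert.Fi23Index31671.data.LevelsOK [] levels :=
  ⟨⟨by decide +kernel, gens0_ok, pts0_ok⟩, ⟨by decide +kernel, gens1_ok, pts1_ok⟩, ⟨by decide +kernel, gens2_ok, pts2_ok⟩, ⟨by decide +kernel, gens3_ok, pts3_ok⟩, ⟨by decide +kernel, gens4_ok, pts4_ok⟩, trivial⟩

theorem order_and_simple : IsSimpleGroup Cfsg.Spor.Fi23 ∧ Nat.card Cfsg.Spor.Fi23 = 4089470473293004800 :=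
  Data.isSimpleGroup_of_cert Cfsg.Agent.CosetCert.Fi23Index31671.valid Cfsg.Agent.CosetCert.Fi23Index31671.spells (N := 4089470473293004800) card_bound.1 card_bound.2
    levels levels_ok (by decide +kernel) suborbitList suborbits 17 1 (by norm_num)
    (by decide +kernel) (by decide +kernel) (by decide +kernel) closeWord 17
    (by decide +kernel)
    (fun c hc => by
      have e : ((List.replicate 17 closeWord).flatten).map
          (Data.code Cfsg.Agent.CosetCert.Fi23Index31671.data.iv Cfsg.Agent.CosetCert.Fi23Index31671.enc) =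
          (List.replicate 17 closeCode).flatten := by decide +kernel
      rw [e]
      exact close_pow c hc)
    close_normal

end Cfsg.Agent.CosetCert.Fi23Order
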